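import Mathlib

set_option autoImplicit false

open Complex

namespace H21.Verlinde

/-- the additive character `x ↦ exp(2πi x / R)` of `ℤ` -/
noncomputable def E (R : ℕ) (x : ℤ) : ℂ := exp (2 * Real.pi * I * (x : ℂ) / (R : ℂ))

lemma E_add (R : ℕ) (x y : ℤ) : E R (x + y) = E R x * E R y := by
  unfold E
  rw [← Complex.exp_add]
  congr 1
  push_cast
  ring

lemma E_zero (R : ℕ) : E R 0 = 1 := by
  unfold E; simp

lemma E_ne_zero (R : ℕ) (x : ℤ) : E R x ≠ 0 := Complex.exp_ne_zero _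

lemma E_neg (R : ℕ) (x : ℤ) : E R (-x) = (E R x)⁻¹ := by
  have h : E R (-x) * E R x = 1 := by rw [← E_add, neg_add_cancel, E_zero]
  exact eq_inv_of_mul_eq_one_left h

lemma E_sum (R : ℕ) {ι : Type*} (s : Finset ι) (f : ι → ℤ) :
    E R (∑ i ∈ s, f i) = ∏ i ∈ s, E R (f i) := by
  classical
  induction s using Finset.induction_on with
  | empty => simp [E_zero]
  | insert a s ha ih => rw [Finset.sum_insert ha, Finset.prod_insert ha, E_add, ih]

lemma E_pow (R : ℕ) (x : ℤ) (m : ℕ) : E R x ^ m = E R (m * x) := by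
  unfold E
  rw [← Complex.exp_nat_mul]
  congr 1
  push_cast
  ring

lemma E_mul_self (R : ℕ) (hR : R ≠ 0) (m : ℤ) : E R ((R : ℤ) * m) = 1 := by
  unfold E
  have hR' : (R : ℂ) ≠ 0 := Nat.cast_ne_zero.mpr hR
  have : 2 * Real.pi * I * (((R : ℤ) * m : ℤ) : ℂ) / (R : ℂ) = m * (2 * Real.pi * I) := by
    push_cast
    field_simp
  rw [this]
  exact Complex.exp_int_mul_two_pi_mul_I m

lemma E_eq_one_iff (R : ℕ) (hR : R ≠ 0) (x : ℤ) : E R x = 1 ↔ (R : ℤ) ∣ x := by
  constructor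
  · intro h
    unfold E at h
    rw [Complex.exp_eq_one_iff] at h
    obtain ⟨n, hn⟩ := h
    have hR' : (R : ℂ) ≠ 0 := Nat.cast_ne_zero.mpr hR
    have hpi : (2 * Real.pi * I : ℂ) ≠ 0 := by
      simp [Real.pi_ne_zero, I_ne_zero]
    have h2 : (x : ℂ) = (R : ℂ) * n := by
      have h3 : 2 * Real.pi * I * (x : ℂ) = (2 * Real.pi * I) * ((R : ℂ) * n) := by
        rw [div_eq_iff hR'] at hn
        rw [hn]; ring
      exact mul_left_cancel₀ hpi h3
    refine ⟨n, ?_⟩
    exact_mod_cast h2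
  · rintro ⟨m, rfl⟩
    exact E_mul_self R hR m

/-- `E` of a multiple of `r` in level `r * N` is the level-`N` character -/
lemma E_mul_left (r N : ℕ) (hr : r ≠ 0) (x : ℤ) : E (r * N) ((r : ℤ) * x) = E N x := by
  unfold E
  congr 1
  have hr' : (r : ℂ) ≠ 0 := Nat.cast_ne_zero.mpr hr
  push_cast
  by_cases hN : (N : ℂ) = 0
  · simp [hN]
  · field_simp

end H21.Verlinde
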