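import Mathlib
import Groth.Agent.H21.Verlinde.V1

set_option autoImplicit false

open Complex

namespace H21.Verlinde

variable {r : ℕ} (N M : ℕ) (α α' : Fin r → ℕ)

/-- exponent coefficients -/
def Cf (σ τ : Equiv.Perm (Fin r)) (j : Fin r) : ℤ :=
  (r : ℤ) * ((α (σ j) : ℤ) + (α' (τ j) : ℤ) - ((r : ℤ) - 1)) - (M : ℤ)

/-- one summand -/
noncomputable def Fst (w : Fin r → ℤ) (σ τ : Equiv.Perm (Fin r)) : ℂ :=
  ((Equiv.Perm.sign σ : ℤ) : ℂ) * ((Equiv.Perm.sign τ : ℤ) : ℂ) *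
    E (r * N) (∑ j, w j * Cf M α α' σ τ j)

/-- the symmetric double sum -/
noncomputable def T (w : Fin r → ℤ) : ℂ :=
  ∑ σ : Equiv.Perm (Fin r), ∑ τ : Equiv.Perm (Fin r), Fst N M α α' w σ τ

lemma Cf_mul_right (σ τ π : Equiv.Perm (Fin r)) (j : Fin r) :
    Cf M α α' (σ * π) (τ * π) j = Cf M α α' σ τ (π j) := rfl

lemma Fst_comp (w : Fin r → ℤ) (π σ τ : Equiv.Perm (Fin r)) :
    Fst N M α α' (w ∘ π) σ τ = Fst N M α α' w (σ * π⁻¹) (τ * π⁻¹) := by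
  unfold Fst
  have h1 : ∑ j, (w ∘ π) j * Cf M α α' σ τ j = ∑ j, w j * Cf M α α' (σ * π⁻¹) (τ * π⁻¹) j := by
    rw [← Equiv.sum_comp π (fun j => w j * Cf M α α' (σ * π⁻¹) (τ * π⁻¹) j)]
    refine Finset.sum_congr rfl (fun j _ => ?_)
    rw [Cf_mul_right]
    simp
  rw [h1]
  have h2 : ((Equiv.Perm.sign (σ * π⁻¹) : ℤ) : ℂ) * ((Equiv.Perm.sign (τ * π⁻¹) : ℤ) : ℂ) =
      ((Equiv.Perm.sign σ : ℤ) : ℂ) * ((Equiv.Perm.sign τ : ℤ) : ℂ) := by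
    rw [Equiv.Perm.sign_mul, Equiv.Perm.sign_mul, Equiv.Perm.sign_inv]
    have : ((Equiv.Perm.sign π : ℤ) : ℂ) * ((Equiv.Perm.sign π : ℤ) : ℂ) = 1 := by
      rcases Int.units_eq_one_or (Equiv.Perm.sign π) with h | h <;> simp [h]
    push_cast
    calc _ = ((Equiv.Perm.sign σ : ℤ) : ℂ) * ((Equiv.Perm.sign τ : ℤ) : ℂ) *
        (((Equiv.Perm.sign π : ℤ) : ℂ) * ((Equiv.Perm.sign π : ℤ) : ℂ)) := by ring
      _ = _ := by rw [this, mul_one]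
  rw [h2]

/-- P1: symmetry -/
theorem T_comp (w : Fin r → ℤ) (π : Equiv.Perm (Fin r)) :
    T N M α α' (w ∘ π) = T N M α α' w := by
  unfold T
  simp_rw [Fst_comp]
  rw [← Equiv.sum_comp (Equiv.mulRight π⁻¹)
    (fun σ => ∑ τ : Equiv.Perm (Fin r), Fst N M α α' w σ τ)]
  refine Finset.sum_congr rfl (fun σ _ => ?_)
  exact Equiv.sum_comp (Equiv.mulRight π⁻¹) (fun τ => Fst N M α α' w (σ * π⁻¹) τ)

/-- P2: translation invariance -/
theorem T_add_const (hC : ∀ σ τ : Equiv.Perm (Fin r), ∑ j, Cf M α α' σ τ j = 0)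
    (w : Fin r → ℤ) (t : ℤ) : T N M α α' (fun j => w j + t) = T N M α α' w := by
  unfold T Fst
  refine Finset.sum_congr rfl (fun σ _ => Finset.sum_congr rfl (fun τ _ => ?_))
  congr 2
  simp_rw [add_mul]
  rw [Finset.sum_add_distrib, ← Finset.mul_sum, hC, mul_zero, add_zero]

/-- P3: quasi-periodicity -/
theorem T_add_single (hr : r ≠ 0) (hN : N ≠ 0) (w : Fin r → ℤ) (j₀ : Fin r) :
    T N M α α' (fun j => w j + if j = j₀ then (N : ℤ) else 0) =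
      E (r * N) (-((N : ℤ) * M)) * T N M α α' w := by
  unfold T
  rw [Finset.mul_sum]
  refine Finset.sum_congr rfl (fun σ _ => ?_)
  rw [Finset.mul_sum]
  refine Finset.sum_congr rfl (fun τ _ => ?_)
  unfold Fst
  have h1 : ∑ j, (w j + if j = j₀ then (N : ℤ) else 0) * Cf M α α' σ τ j =
      (∑ j, w j * Cf M α α' σ τ j) + (N : ℤ) * Cf M α α' σ τ j₀ := by
    simp_rw [add_mul]
    rw [Finset.sum_add_distrib]
    congr 1
    simp [ite_mul]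
  have h2 : (N : ℤ) * Cf M α α' σ τ j₀ =
      ((r * N : ℕ) : ℤ) * ((α (σ j₀) : ℤ) + (α' (τ j₀) : ℤ) - ((r : ℤ) - 1)) +
        -((N : ℤ) * M) := by
    unfold Cf; push_cast; ring
  rw [h1, h2, E_add, E_add, E_mul_self _ (Nat.mul_ne_zero hr hN)]
  ring

end H21.Verlinde
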