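import Mathlib
import Groth.Agent.H21.Verlinde.V2

set_option autoImplicit false

open Complex

namespace H21.Verlinde

variable {r : ℕ} (N M : ℕ) (α α' : Fin r → ℕ)

/-- the matrix `(z_j ^ α_i)` with `z_j = E (r w_j)` -/
noncomputable def Amat (α : Fin r → ℕ) (w : Fin r → ℤ) : Matrix (Fin r) (Fin r) ℂ :=
  Matrix.of fun i j => E (r * N) ((r : ℤ) * w j) ^ (α i)

lemma Amat_det (α : Fin r → ℕ) (w : Fin r → ℤ) :
    (Amat N α w).det = ∑ σ : Equiv.Perm (Fin r), ((Equiv.Perm.sign σ : ℤ) : ℂ) *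
      E (r * N) (∑ j, w j * ((r : ℤ) * (α (σ j) : ℤ))) := by
  rw [Matrix.det_apply']
  refine Finset.sum_congr rfl (fun σ _ => ?_)
  congr 1
  rw [E_sum]
  refine Finset.prod_congr rfl (fun j _ => ?_)
  unfold Amat
  rw [Matrix.of_apply, E_pow]
  congr 1
  ring

/-- P4: the determinant vanishes at coincidences modulo `N` -/
lemma Amat_det_eq_zero (hr : r ≠ 0) (hN : N ≠ 0) (α : Fin r → ℕ) (w : Fin r → ℤ) (i j : Fin r)
    (hij : i ≠ j) (h : (N : ℤ) ∣ w i - w j) : (Amat N α w).det = 0 := by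
  apply Matrix.det_zero_of_column_eq hij
  intro k
  unfold Amat
  rw [Matrix.of_apply, Matrix.of_apply]
  congr 1
  obtain ⟨m, hm⟩ := h
  have : (r : ℤ) * w i = (r : ℤ) * w j + ((r * N : ℕ) : ℤ) * m := by
    have : w i = w j + N * m := by linarith
    rw [this]; push_cast; ring
  rw [this, E_add, E_mul_self _ (Nat.mul_ne_zero hr hN), mul_one]

/-- the double sum in determinant form -/
theorem T_eq_det (w : Fin r → ℤ) :
    T N M α α' w = E (r * N) (-(((r : ℤ) * ((r : ℤ) - 1) + M) * ∑ j, w j)) *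
      (Amat N α w).det * (Amat N α' w).det := by
  rw [Amat_det, Amat_det, mul_assoc, Finset.sum_mul_sum, Finset.mul_sum]
  unfold T
  refine Finset.sum_congr rfl (fun σ _ => ?_)
  rw [Finset.mul_sum]
  refine Finset.sum_congr rfl (fun τ _ => ?_)
  unfold Fst
  have h : ∑ j, w j * Cf M α α' σ τ j =
      -(((r : ℤ) * ((r : ℤ) - 1) + M) * ∑ j, w j) +
        ((∑ j, w j * ((r : ℤ) * (α (σ j) : ℤ))) + ∑ j, w j * ((r : ℤ) * (α' (τ j) : ℤ))) := by
    rw [Finset.mul_sum, ← Finset.sum_add_distrib, ← Finset.sum_neg_distrib,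
      ← Finset.sum_add_distrib]
    refine Finset.sum_congr rfl (fun j _ => ?_)
    unfold Cf; ring
  rw [h, E_add, E_add]
  ring

theorem T_eq_zero (hr : r ≠ 0) (hN : N ≠ 0) (w : Fin r → ℤ) (i j : Fin r)
    (hij : i ≠ j) (h : (N : ℤ) ∣ w i - w j) : T N M α α' w = 0 := by
  rw [T_eq_det, Amat_det_eq_zero N hr hN α w i j hij h, mul_zero, zero_mul]

end H21.Verlinde
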