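import Mathlib

set_option autoImplicit false

open Finset

namespace H21.Verlinde

variable {r : ℕ}

/-- product over ordered pairs as an iterated product -/
lemma prod_pairs {β : Type*} [CommMonoid β] (g : Fin r → Fin r → β) :
    ∏ p ∈ (Finset.univ : Finset (Fin r × Fin r)).filter (fun p => p.1 < p.2), g p.1 p.2 =
      ∏ i : Fin r, ∏ j ∈ Ioi i, g i j := by
  rw [Finset.prod_filter, ← Finset.univ_product_univ, Finset.prod_product]
  refine Finset.prod_congr rfl (fun i _ => ?_)
  rw [← Finset.prod_filter, Finset.filter_lt_eq_Ioi]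

lemma sum_pairs {β : Type*} [AddCommMonoid β] (g : Fin r → Fin r → β) :
    ∑ p ∈ (Finset.univ : Finset (Fin r × Fin r)).filter (fun p => p.1 < p.2), g p.1 p.2 =
      ∑ i : Fin r, ∑ j ∈ Ioi i, g i j := by
  rw [Finset.sum_filter, ← Finset.univ_product_univ, Finset.sum_product]
  refine Finset.sum_congr rfl (fun i _ => ?_)
  rw [← Finset.sum_filter, Finset.filter_lt_eq_Ioi]

/-- each index occurs in `r - 1` ordered pairs -/
lemma sum_pairs_add (w : Fin r → ℤ) :
    ∑ p ∈ (Finset.univ : Finset (Fin r × Fin r)).filter (fun p => p.1 < p.2), (w p.1 + w p.2) =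
      ((r : ℤ) - 1) * ∑ j, w j := by
  rw [sum_pairs (fun i j => w i + w j)]
  simp_rw [Finset.sum_add_distrib]
  have h1 : ∑ i : Fin r, ∑ _j ∈ Ioi i, w i = ∑ i : Fin r, ((r : ℤ) - 1 - (i : ℕ)) * w i := by
    refine Finset.sum_congr rfl (fun i _ => ?_)
    rw [Finset.sum_const, Fin.card_Ioi, nsmul_eq_mul]
    have : (i : ℕ) + 1 ≤ r := i.2
    rw [Nat.cast_sub (by omega), Nat.cast_sub (by omega)]
    push_cast; ring
  have h2 : ∑ i : Fin r, ∑ j ∈ Ioi i, w j = ∑ j : Fin r, ((j : ℕ) : ℤ) * w j := by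
    rw [Finset.sum_comm' (s' := fun j => Iio j) (t' := Finset.univ)
      (by intro i j; simp)]
    refine Finset.sum_congr rfl (fun j _ => ?_)
    rw [Finset.sum_const, Fin.card_Iio, nsmul_eq_mul]
  rw [h1, h2, ← Finset.sum_add_distrib, Finset.mul_sum]
  refine Finset.sum_congr rfl (fun i _ => ?_)
  ring

/-- the square of the reversed Vandermonde determinant -/
lemma det_rev_vandermonde_sq {R : Type*} [CommRing R] (z : Fin r → R) :
    (Matrix.det (Matrix.of fun i j : Fin r => z j ^ (r - 1 - (i : ℕ)))) ^ 2 =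
      ∏ p ∈ (Finset.univ : Finset (Fin r × Fin r)).filter (fun p => p.1 < p.2),
        (z p.1 - z p.2) ^ 2 := by
  have h1 : (Matrix.of fun i j : Fin r => z j ^ (r - 1 - (i : ℕ))) =
      ((Matrix.vandermonde z).submatrix id (Fin.revPerm : Equiv.Perm (Fin r))).transpose := by
    ext i j
    simp only [Matrix.of_apply, Matrix.transpose_apply, Matrix.submatrix_apply, id,
      Matrix.vandermonde_apply, Fin.revPerm_apply, Fin.val_rev]
    congr 1
    omega
  rw [h1, Matrix.det_transpose, Matrix.det_permute', mul_pow, Matrix.det_vandermonde]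
  have hs : (((Equiv.Perm.sign (Fin.revPerm : Equiv.Perm (Fin r)) : ℤˣ) : ℤ) : R) ^ 2 = 1 := by
    rcases Int.units_eq_one_or (Equiv.Perm.sign (Fin.revPerm : Equiv.Perm (Fin r))) with h | h <;>
      simp [h]
  rw [hs, one_mul, prod_pairs (fun i j => (z i - z j) ^ 2), ← Finset.prod_pow]
  refine Finset.prod_congr rfl (fun i _ => ?_)
  rw [← Finset.prod_pow]
  refine Finset.prod_congr rfl (fun j _ => ?_)
  ring

end H21.Verlinde
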