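import Mathlib
import Groth.Agent.H21.Verlinde.V3
import Groth.Agent.H21.Verlinde.V8

set_option autoImplicit false

open Complex

namespace H21.Verlinde

lemma E_half (N : ℕ) (x : ℤ) : ∃ p : ℂ, p ≠ 0 ∧ E N x = p ^ 2 ∧ E N (-x) = (p ^ 2)⁻¹ ∧
    p = exp (Real.pi * I * (x : ℂ) / (N : ℂ)) := by
  refine ⟨exp (Real.pi * I * (x : ℂ) / (N : ℂ)), Complex.exp_ne_zero _, ?_, ?_, rfl⟩
  · unfold E
    rw [sq, ← Complex.exp_add]
    congr 1; ring
  · rw [E_neg]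
    congr 1
    unfold E
    rw [sq, ← Complex.exp_add]
    congr 1; ring

lemma sin_sq (N : ℕ) (a b : ℕ) :
    (((2 * Real.sin (Real.pi * ((a : ℝ) - (b : ℝ)) / (N : ℝ))) ^ 2 : ℝ) : ℂ) =
      -(E N a - E N b) ^ 2 * E N (-(a : ℤ)) * E N (-(b : ℤ)) := by
  obtain ⟨p, hp0, hp1, hp2, hp3⟩ := E_half N a
  obtain ⟨q, hq0, hq1, hq2, hq3⟩ := E_half N b
  rw [hp1, hp2, hq1, hq2]
  push_cast
  rw [Complex.two_sin]
  have h1 : exp (-(Real.pi * ((a : ℂ) - (b : ℂ)) / (N : ℂ)) * I) = q / p := by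
    rw [hp3, hq3, ← Complex.exp_sub]
    congr 1
    push_cast
    ring
  have h2 : exp ((Real.pi * ((a : ℂ) - (b : ℂ)) / (N : ℂ)) * I) = p / q := by
    rw [hp3, hq3, ← Complex.exp_sub]
    congr 1
    push_cast
    ring
  rw [h1, h2, mul_pow, I_sq]
  field_simp
  ring

variable {r : ℕ}

/-- the phase-squared product as a Vandermonde square -/
lemma P_eq (N : ℕ) (hr : r ≠ 0) (v : Fin r → ℕ) :
    ((∏ p ∈ (Finset.univ : Finset (Fin r × Fin r)).filter (fun p => p.1 < p.2),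
        ((2 : ℝ) * Real.sin (Real.pi * ((v p.1 : ℝ) - (v p.2 : ℝ)) / (N : ℝ))) ^ 2 : ℝ) : ℂ) =
      (∏ _p ∈ (Finset.univ : Finset (Fin r × Fin r)).filter (fun p => p.1 < p.2), (-1 : ℂ)) *
        (Amat N (fun i : Fin r => r - 1 - (i : ℕ)) (fun j => (v j : ℤ))).det ^ 2 *
        E (r * N) (-((r : ℤ) * ((r : ℤ) - 1) * ∑ j, (v j : ℤ))) := by
  have hdet : (Amat N (fun i : Fin r => r - 1 - (i : ℕ)) (fun j => (v j : ℤ))).det ^ 2 =
      ∏ p ∈ (Finset.univ : Finset (Fin r × Fin r)).filter (fun p => p.1 < p.2),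
        (E N (v p.1 : ℤ) - E N (v p.2 : ℤ)) ^ 2 := by
    have := det_rev_vandermonde_sq (fun j : Fin r => E (r * N) ((r : ℤ) * (v j : ℤ)))
    unfold Amat
    rw [this]
    refine Finset.prod_congr rfl (fun p _ => ?_)
    rw [E_mul_left r N hr, E_mul_left r N hr]
  have hE : E (r * N) (-((r : ℤ) * ((r : ℤ) - 1) * ∑ j, (v j : ℤ))) =
      ∏ p ∈ (Finset.univ : Finset (Fin r × Fin r)).filter (fun p => p.1 < p.2),
        (E N (-(v p.1 : ℤ)) * E N (-(v p.2 : ℤ))) := by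
    have h1 : -((r : ℤ) * ((r : ℤ) - 1) * ∑ j, (v j : ℤ)) =
        (r : ℤ) * ∑ p ∈ (Finset.univ : Finset (Fin r × Fin r)).filter (fun p => p.1 < p.2),
          (-(v p.1 : ℤ) + -(v p.2 : ℤ)) := by
      have := sum_pairs_add (fun j : Fin r => -(v j : ℤ))
      rw [this, Finset.sum_neg_distrib]
      ring
    rw [h1, E_mul_left r N hr, E_sum]
    refine Finset.prod_congr rfl (fun p _ => ?_)
    rw [E_add]
  rw [hdet, hE, Complex.ofReal_prod, ← Finset.prod_mul_distrib, ← Finset.prod_mul_distrib]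
  refine Finset.prod_congr rfl (fun p _ => ?_)
  rw [sin_sq]
  ring

end H21.Verlinde
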