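import Mathlib
import Groth.Agent.H21.Verlinde.V9

set_option autoImplicit false

open Complex

namespace H21.Verlinde

theorem term_eq (r k : ℕ) (hr : r ≠ 0) (lam lam' : Fin r → ℕ)
    (z : (Fin r → ℕ) → Fin r → ℂ)
    (hz : ∀ v j, z v j = Complex.exp (2 * Real.pi * Complex.I * (v j : ℂ) / ((r : ℂ) + k)))
    (S : (Fin r → ℕ) → (Fin r → ℕ) → ℂ)
    (hS : ∀ μ v, S μ v = (Matrix.of fun i j : Fin r => z v j ^ (μ i + (r - 1 - (i : ℕ)))).det /
        (Matrix.of fun i j : Fin r => z v j ^ (r - 1 - (i : ℕ))).det)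
    (P : (Fin r → ℕ) → ℝ)
    (hP : ∀ v, P v = ∏ p ∈ (Finset.univ : Finset (Fin r × Fin r)).filter (fun p => p.1 < p.2),
        ((2 : ℝ) * Real.sin (Real.pi * ((v p.1 : ℝ) - (v p.2 : ℝ)) / ((r : ℝ) + k))) ^ 2)
    (v : Fin r → ℕ) (hvlt : ∀ j, v j < r + k) (hinj : Function.Injective v) :
    Complex.exp (-(2 * Real.pi * Complex.I * (((∑ i, lam i) + (∑ i, lam' i) : ℕ) : ℂ) *
          ((∑ j, v j : ℕ) : ℂ) / ((r : ℂ) * ((r : ℂ) + k)))) *
        S lam v * S lam' v * (P v : ℂ) =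
      (∏ _p ∈ (Finset.univ : Finset (Fin r × Fin r)).filter (fun p => p.1 < p.2), (-1 : ℂ)) *
        T (r + k) ((∑ i, lam i) + (∑ i, lam' i)) (fun i => lam i + (r - 1 - (i : ℕ)))
          (fun i => lam' i + (r - 1 - (i : ℕ))) (fun j => (v j : ℤ)) := by
  have hN : r + k ≠ 0 := by omega
  have hzE : ∀ j, z v j = E (r * (r + k)) ((r : ℤ) * (v j : ℤ)) := by
    intro j
    rw [hz, E_mul_left r (r + k) hr]
    unfold E
    push_cast
    rfl
  have hA : ∀ μ : Fin r → ℕ, (Matrix.of fun i j : Fin r => z v j ^ (μ i + (r - 1 - (i : ℕ)))) =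
      Amat (r + k) (fun i => μ i + (r - 1 - (i : ℕ))) (fun j => (v j : ℤ)) := by
    intro μ
    ext i j
    simp only [Matrix.of_apply, Amat, hzE]
  have hD : (Matrix.of fun i j : Fin r => z v j ^ (r - 1 - (i : ℕ))) =
      Amat (r + k) (fun i => r - 1 - (i : ℕ)) (fun j => (v j : ℤ)) := by
    ext i j
    simp only [Matrix.of_apply, Amat, hzE]
  obtain ⟨D, hDdef⟩ : ∃ D : ℂ,
      D = (Amat (r + k) (fun i : Fin r => r - 1 - (i : ℕ)) (fun j => (v j : ℤ))).det := ⟨_, rfl⟩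
  have hPv : (P v : ℂ) =
      (∏ _p ∈ (Finset.univ : Finset (Fin r × Fin r)).filter (fun p => p.1 < p.2), (-1 : ℂ)) *
        D ^ 2 * E (r * (r + k)) (-((r : ℤ) * ((r : ℤ) - 1) * ∑ j, (v j : ℤ))) := by
    rw [hP, hDdef, ← P_eq (r + k) hr v]
    push_cast
    rfl
  -- D ≠ 0
  have hD0 : D ≠ 0 := by
    have hsq : D ^ 2 = ∏ p ∈ (Finset.univ : Finset (Fin r × Fin r)).filter (fun p => p.1 < p.2),
        (E (r * (r + k)) ((r : ℤ) * (v p.1 : ℤ)) - E (r * (r + k)) ((r : ℤ) * (v p.2 : ℤ))) ^ 2 := by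
      rw [hDdef]
      exact det_rev_vandermonde_sq (fun j : Fin r => E (r * (r + k)) ((r : ℤ) * (v j : ℤ)))
    intro h0
    rw [h0, zero_pow two_ne_zero] at hsq
    have := hsq.symm
    rw [Finset.prod_eq_zero_iff] at this
    obtain ⟨p, hp, hp0⟩ := this
    rw [Finset.mem_filter] at hp
    have h1 := sub_eq_zero.mp (pow_eq_zero_iff two_ne_zero |>.mp hp0)
    rw [E_mul_left r (r + k) hr, E_mul_left r (r + k) hr] at h1
    have h2 : E (r + k) ((v p.1 : ℤ) - (v p.2 : ℤ)) = 1 := by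
      rw [sub_eq_add_neg, E_add, E_neg, h1]
      exact mul_inv_cancel₀ (E_ne_zero _ _)
    rw [E_eq_one_iff _ hN] at h2
    have h3 := hvlt p.1
    have h4 := hvlt p.2
    have h5 : (v p.1 : ℤ) = v p.2 := by
      obtain ⟨t, ht⟩ := h2
      push_cast at ht
      have : t = 0 := by
        by_contra hne
        rcases lt_or_gt_of_ne hne with hlt | hgt
        · have : t ≤ -1 := by omega
          nlinarith
        · have : 1 ≤ t := by omega
          nlinarith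
      rw [this, mul_zero] at ht
      linarith
    have h6 : v p.1 = v p.2 := by exact_mod_cast h5
    exact absurd (hinj h6) (ne_of_lt hp.2)
  have htw : Complex.exp (-(2 * Real.pi * Complex.I * (((∑ i, lam i) + (∑ i, lam' i) : ℕ) : ℂ) *
          ((∑ j, v j : ℕ) : ℂ) / ((r : ℂ) * ((r : ℂ) + k)))) =
      E (r * (r + k)) (-((((∑ i, lam i) + (∑ i, lam' i) : ℕ) : ℤ) * ∑ j, (v j : ℤ))) := by
    unfold E
    congr 1
    push_cast
    ring
  rw [htw, hS, hS, hA, hA, hD, ← hDdef, hPv, T_eq_det]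
  have hE : E (r * (r + k)) (-(((r : ℤ) * ((r : ℤ) - 1) + (((∑ i, lam i) + (∑ i, lam' i) : ℕ) : ℤ)) *
      ∑ j, (v j : ℤ))) =
      E (r * (r + k)) (-((((∑ i, lam i) + (∑ i, lam' i) : ℕ) : ℤ) * ∑ j, (v j : ℤ))) *
      E (r * (r + k)) (-((r : ℤ) * ((r : ℤ) - 1) * ∑ j, (v j : ℤ))) := by
    rw [← E_add]
    congr 1
    ring
  rw [hE]
  field_simp

end H21.Verlinde
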