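import Mathlib

set_option autoImplicit false

namespace H21.Verlinde

variable {n N : ℕ}

/-- Symmetrization: a symmetric function vanishing off the injective tuples sums to `n!` times
its sum over strictly decreasing tuples. -/
theorem sum_eq_factorial_mul_sum_strictAnti (f : (Fin n → Fin N) → ℂ)
    (hsymm : ∀ (u : Fin n → Fin N) (π : Equiv.Perm (Fin n)), f (u ∘ π) = f u)
    (hzero : ∀ u : Fin n → Fin N, ¬ Function.Injective u → f u = 0) :
    ∑ u : Fin n → Fin N, f u =
      (n.factorial : ℂ) * ∑ u ∈ (Finset.univ : Finset (Fin n → Fin N)).filter StrictAnti, f u := by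
  classical
  have h1 : ∑ u : Fin n → Fin N, f u =
      ∑ u ∈ (Finset.univ : Finset (Fin n → Fin N)).filter Function.Injective, f u := by
    rw [Finset.sum_filter]
    refine Finset.sum_congr rfl (fun u _ => ?_)
    split_ifs with h
    · rfl
    · exact hzero u h
  have h2 : ∑ q ∈ (Finset.univ : Finset (Equiv.Perm (Fin n))) ×ˢ
        ((Finset.univ : Finset (Fin n → Fin N)).filter StrictAnti), f (q.2 ∘ q.1) =
      ∑ u ∈ (Finset.univ : Finset (Fin n → Fin N)).filter Function.Injective, f u := by
    refine Finset.sum_bij (fun q _ => q.2 ∘ q.1) ?_ ?_ ?_ (fun _ _ => rfl)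
    · intro q hq
      rw [Finset.mem_product, Finset.mem_filter] at hq
      rw [Finset.mem_filter]
      exact ⟨Finset.mem_univ _, hq.2.2.injective.comp q.1.injective⟩
    · intro q₁ hq₁ q₂ hq₂ h
      rw [Finset.mem_product, Finset.mem_filter] at hq₁ hq₂
      have hr : Set.range q₁.2 = Set.range q₂.2 := by
        have e1 : Set.range (q₁.2 ∘ q₁.1) = Set.range q₁.2 := q₁.1.surjective.range_comp _
        have e2 : Set.range (q₂.2 ∘ q₂.1) = Set.range q₂.2 := q₂.1.surjective.range_comp _
        rw [← e1, ← e2]
        exact congrArg Set.range h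
      have hv : q₁.2 = q₂.2 := (StrictAnti.range_inj hq₁.2.2 hq₂.2.2).mp hr
      have hπ : q₁.1 = q₂.1 := by
        ext i
        have := congrFun h i
        simp only [Function.comp_apply, hv] at this
        exact congrArg Fin.val (hq₂.2.2.injective this)
      exact Prod.ext hπ hv
    · intro u hu
      rw [Finset.mem_filter] at hu
      have hmono : StrictMono (u ∘ Tuple.sort u) :=
        (Tuple.monotone_sort u).strictMono_of_injective (hu.2.comp (Tuple.sort u).injective)
      obtain ⟨ρ, hρ⟩ : ∃ ρ : Equiv.Perm (Fin n), ρ = Tuple.sort u * (Fin.revPerm : Equiv.Perm (Fin n)) :=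
        ⟨_, rfl⟩
      have hρa : ∀ i, ρ i = Tuple.sort u (Fin.rev i) := fun i => by rw [hρ]; rfl
      refine ⟨(ρ⁻¹, u ∘ ρ), ?_, ?_⟩
      · rw [Finset.mem_product, Finset.mem_filter]
        refine ⟨Finset.mem_univ _, Finset.mem_univ _, ?_⟩
        intro i j hij
        show u (ρ j) < u (ρ i)
        rw [hρa, hρa]
        exact hmono (Fin.rev_lt_rev.mpr hij)
      · funext i
        simp
  rw [h1, ← h2, Finset.sum_product]
  simp_rw [hsymm]
  rw [Finset.sum_const, Finset.card_univ, Fintype.card_perm, Fintype.card_fin, nsmul_eq_mul]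

end H21.Verlinde
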