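import Mathlib
import Groth.Agent.H21.Verlinde.V3

set_option autoImplicit false

open Complex

namespace H21.Verlinde

lemma sum_E_fin (N : ℕ) (hN : N ≠ 0) (c : ℤ) (hc : ¬ (N : ℤ) ∣ c) :
    ∑ x : Fin N, E N (((x : ℕ) : ℤ) * c) = 0 := by
  have h1 : ∀ x : Fin N, E N (((x : ℕ) : ℤ) * c) = E N c ^ (x : ℕ) := fun x => by
    rw [E_pow]
  simp_rw [h1]
  rw [Fin.sum_univ_eq_sum_range (fun i => E N c ^ i) N]
  have hne : E N c ≠ 1 := fun h => hc ((E_eq_one_iff N hN c).mp h)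
  have hpow : E N c ^ N = 1 := by
    rw [E_pow]
    exact E_mul_self N hN c
  have := mul_geom_sum (E N c) N
  rw [hpow, sub_self] at this
  rcases mul_eq_zero.mp this with h | h
  · exact absurd (sub_eq_zero.mp h) hne
  · exact h

variable {n : ℕ} (N M' : ℕ) (α α' : Fin (n + 1) → ℕ)

/-- Case A: the Fourier computation -/
theorem sum_snoc_eq_zero (hN : N ≠ 0)
    (hno : ∀ σ τ : Equiv.Perm (Fin (n + 1)), ∃ j : Fin n,
      ¬ (N : ℤ) ∣ ((α (σ (Fin.castSucc j)) : ℤ) + (α' (τ (Fin.castSucc j)) : ℤ) - (n : ℤ) - M')) :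
    ∑ u : Fin n → Fin N,
      T N ((n + 1) * M') α α' (Fin.snoc (fun i => (((u i : Fin N) : ℕ) : ℤ)) 0) = 0 := by
  classical
  unfold T
  rw [Finset.sum_comm]
  refine Finset.sum_eq_zero (fun σ _ => ?_)
  rw [Finset.sum_comm]
  refine Finset.sum_eq_zero (fun τ _ => ?_)
  unfold Fst
  rw [← Finset.mul_sum]
  obtain ⟨j₀, hj₀⟩ := hno σ τ
  have h1 : ∀ u : Fin n → Fin N,
      E ((n + 1) * N) (∑ j, (Fin.snoc (fun i => (((u i : Fin N) : ℕ) : ℤ)) 0 : Fin (n + 1) → ℤ) j *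
        Cf ((n + 1) * M') α α' σ τ j) =
      ∏ j : Fin n, E N ((((u j : Fin N) : ℕ) : ℤ) *
        ((α (σ (Fin.castSucc j)) : ℤ) + (α' (τ (Fin.castSucc j)) : ℤ) - (n : ℤ) - M')) := by
    intro u
    rw [Fin.sum_univ_castSucc]
    simp only [Fin.snoc_castSucc, Fin.snoc_last, zero_mul, add_zero]
    rw [E_sum]
    refine Finset.prod_congr rfl (fun j _ => ?_)
    rw [← E_mul_left (n + 1) N (by omega)]
    congr 1
    unfold Cf
    push_cast
    ring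
  simp_rw [h1]
  have h2 := Finset.prod_univ_sum (fun _ : Fin n => (Finset.univ : Finset (Fin N)))
    (fun (j : Fin n) (x : Fin N) => E N ((((x : Fin N) : ℕ) : ℤ) *
        ((α (σ (Fin.castSucc j)) : ℤ) + (α' (τ (Fin.castSucc j)) : ℤ) - (n : ℤ) - M')))
  rw [Fintype.piFinset_univ] at h2
  rw [← h2]
  have h3 : ∏ j : Fin n, ∑ x : Fin N, E N ((((x : Fin N) : ℕ) : ℤ) *
        ((α (σ (Fin.castSucc j)) : ℤ) + (α' (τ (Fin.castSucc j)) : ℤ) - (n : ℤ) - M')) = 0 := by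
    apply Finset.prod_eq_zero (Finset.mem_univ j₀)
    exact sum_E_fin N hN _ hj₀
  rw [h3, mul_zero]

theorem sum_snoc_eq_zero' (M : ℕ) (hM : M = (n + 1) * M') (hN : N ≠ 0)
    (hno : ∀ σ τ : Equiv.Perm (Fin (n + 1)), ∃ j : Fin n,
      ¬ (N : ℤ) ∣ ((α (σ (Fin.castSucc j)) : ℤ) + (α' (τ (Fin.castSucc j)) : ℤ) - (n : ℤ) - M')) :
    ∑ u : Fin n → Fin N,
      T N M α α' (Fin.snoc (fun i => (((u i : Fin N) : ℕ) : ℤ)) 0) = 0 := by
  subst hM
  exact sum_snoc_eq_zero N M' α α' hN hno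

end H21.Verlinde
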