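import Mathlib
import Groth.Agent.H21.Verlinde.V7
import Groth.Agent.H21.Verlinde.V5
import Groth.Agent.H21.Verlinde.V3

set_option autoImplicit false

open Complex

namespace H21.Verlinde

variable {n : ℕ} (N M : ℕ) (α α' : Fin (n + 1) → ℕ)

/-- extend a permutation of `Fin n` to `Fin (n+1)` fixing `last` -/
def extPerm (π : Equiv.Perm (Fin n)) : Equiv.Perm (Fin (n + 1)) :=
  finSuccEquivLast.trans ((Equiv.optionCongr π).trans finSuccEquivLast.symm)

lemma extPerm_castSucc (π : Equiv.Perm (Fin n)) (i : Fin n) :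
    extPerm π (Fin.castSucc i) = Fin.castSucc (π i) := by
  simp [extPerm]

lemma extPerm_last (π : Equiv.Perm (Fin n)) : extPerm π (Fin.last n) = Fin.last n := by
  simp [extPerm]

lemma snoc_comp (u : Fin n → ℤ) (π : Equiv.Perm (Fin n)) :
    (Fin.snoc (u ∘ π) 0 : Fin (n + 1) → ℤ) = (Fin.snoc u 0 : Fin (n + 1) → ℤ) ∘ extPerm π := by
  funext j
  refine Fin.lastCases ?_ (fun i => ?_) j
  · simp [extPerm_last]
  · simp [extPerm_castSucc]

/-- the function to be symmetrized -/
noncomputable def fA (u : Fin n → Fin N) : ℂ :=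
  T N M α α' (Fin.snoc (fun i => (((u i : Fin N) : ℕ) : ℤ)) 0)

lemma fA_symm (u : Fin n → Fin N) (π : Equiv.Perm (Fin n)) :
    fA N M α α' (u ∘ π) = fA N M α α' u := by
  unfold fA
  have : (fun i => ((((u ∘ π) i : Fin N) : ℕ) : ℤ)) = (fun i => (((u i : Fin N) : ℕ) : ℤ)) ∘ π := rfl
  rw [this, snoc_comp, T_comp]

lemma fA_zero (hN : N ≠ 0) (u : Fin n → Fin N) (h : ¬ Function.Injective u) :
    fA N M α α' u = 0 := by
  unfold fA
  unfold Function.Injective at h
  push Not at h
  obtain ⟨i, j, hij, hne⟩ := h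
  refine T_eq_zero N M α α' (by omega) hN _ (Fin.castSucc i) (Fin.castSucc j) ?_ ?_
  · intro h; exact hne (Fin.castSucc_injective _ h)
  · simp only [Fin.snoc_castSucc, hij, sub_self, dvd_zero]

lemma fA_zero' (hN : N ≠ 0) (u : Fin n → Fin N) (i : Fin n) (h : ((u i : Fin N) : ℕ) = 0) :
    fA N M α α' u = 0 := by
  unfold fA
  refine T_eq_zero N M α α' (by omega) hN _ (Fin.castSucc i) (Fin.last n) ?_ ?_
  · exact (Fin.castSucc_lt_last i).ne
  · simp only [Fin.snoc_castSucc, Fin.snoc_last, h, Nat.cast_zero, sub_self, dvd_zero]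

theorem sum_SA_eq_zero (M' : ℕ) (hM : M = (n + 1) * M') (hN : N ≠ 0)
    (hno : ∀ σ τ : Equiv.Perm (Fin (n + 1)), ∃ j : Fin n,
      ¬ (N : ℤ) ∣ ((α (σ (Fin.castSucc j)) : ℤ) + (α' (τ (Fin.castSucc j)) : ℤ) - (n : ℤ) - M')) :
    ∑ u ∈ (Finset.univ : Finset (Fin n → Fin N)).filter StrictAnti, fA N M α α' u = 0 := by
  have h5 := sum_eq_factorial_mul_sum_strictAnti (fA N M α α') (fA_symm N M α α')
    (fA_zero N M α α' hN)
  have h7 : ∑ u : Fin n → Fin N, fA N M α α' u = 0 :=
    sum_snoc_eq_zero' N M' α α' M hM hN hno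
  rw [h7] at h5
  have hfac : (n.factorial : ℂ) ≠ 0 := by exact_mod_cast Nat.factorial_ne_zero n
  rcases mul_eq_zero.mp h5.symm with h | h
  · exact absurd h hfac
  · exact h

theorem sum_V0_eq_sum_SA (hN : N ≠ 0) :
    ∑ v ∈ (Finset.univ : Finset (Fin (n + 1) → Fin N)).filter
        (fun v => StrictAnti v ∧ ((v (Fin.last n) : Fin N) : ℕ) = 0),
      T N M α α' (fun j => (((v j : Fin N) : ℕ) : ℤ)) =
    ∑ u ∈ (Finset.univ : Finset (Fin n → Fin N)).filter StrictAnti, fA N M α α' u := by
  classical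
  refine Finset.sum_of_injOn (fun v => v ∘ Fin.castSucc) ?_ ?_ ?_ ?_
  · intro v hv v' hv' h
    simp only [Finset.coe_filter, Finset.mem_univ, true_and, Set.mem_ofPred_eq] at hv hv'
    funext j
    refine Fin.lastCases ?_ (fun i => ?_) j
    · apply Fin.ext
      rw [hv.2, hv'.2]
    · exact congrFun h i
  · intro v hv
    simp only [Finset.coe_filter, Finset.mem_univ, true_and, Set.mem_ofPred_eq] at hv ⊢
    exact hv.1.comp_strictMono (Fin.strictMono_castSucc)
  · intro u hu hnot
    by_cases h0 : ∃ i, ((u i : Fin N) : ℕ) = 0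
    · obtain ⟨i, hi⟩ := h0
      exact fA_zero' N M α α' hN u i hi
    · exfalso
      apply hnot
      push Not at h0
      simp only [Finset.mem_filter, Finset.mem_univ, true_and] at hu
      refine ⟨(Fin.snoc u ⟨0, Nat.pos_of_ne_zero hN⟩ : Fin (n + 1) → Fin N), ?_, ?_⟩
      · simp only [Finset.coe_filter, Finset.mem_univ, true_and, Set.mem_ofPred_eq]
        refine ⟨?_, ?_⟩
        · intro i j hij
          revert hij
          refine Fin.lastCases ?_ (fun j' => ?_) j
          · refine Fin.lastCases ?_ (fun i' => ?_) i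
            · intro h; exact absurd h (lt_irrefl _)
            · intro _
              simp only [Fin.snoc_castSucc, Fin.snoc_last]
              rw [Fin.lt_def]
              have := h0 i'
              simp only
              omega
          · refine Fin.lastCases ?_ (fun i' => ?_) i
            · intro h
              exact absurd h (not_lt_of_ge (Fin.le_last _))
            · intro h
              simp only [Fin.snoc_castSucc]
              exact hu (Fin.castSucc_lt_castSucc_iff.mp h)
        · simp only [Fin.snoc_last]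
      · funext i
        simp only [Function.comp_apply, Fin.snoc_castSucc]
  · intro v hv
    simp only [Finset.mem_filter, Finset.mem_univ, true_and] at hv
    unfold fA
    congr 1
    funext j
    refine Fin.lastCases ?_ (fun i => ?_) j
    · simp only [Fin.snoc_last, hv.2, Nat.cast_zero]
    · simp only [Fin.snoc_castSucc, Function.comp_apply]

theorem caseA (M' : ℕ) (hM : M = (n + 1) * M') (hN : N ≠ 0)
    (hno : ∀ σ τ : Equiv.Perm (Fin (n + 1)), ∃ j : Fin n,
      ¬ (N : ℤ) ∣ ((α (σ (Fin.castSucc j)) : ℤ) + (α' (τ (Fin.castSucc j)) : ℤ) - (n : ℤ) - M')) :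
    ∑ v ∈ (Finset.univ : Finset (Fin (n + 1) → Fin N)).filter
        (fun v => StrictAnti v ∧ ((v (Fin.last n) : Fin N) : ℕ) = 0),
      T N M α α' (fun j => (((v j : Fin N) : ℕ) : ℤ)) = 0 := by
  rw [sum_V0_eq_sum_SA N M α α' hN]
  exact sum_SA_eq_zero N M α α' M' hM hN hno

end H21.Verlinde
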