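import Mathlib
import Groth.Agent.H21.Verlinde.V3

set_option autoImplicit false

open Complex

namespace H21.Verlinde

variable {m : ℕ} (N M : ℕ) (α α' : Fin (m + 2) → ℕ)

/-- the valid integer tuples: strictly decreasing in `[0, N)` with last entry `0` -/
noncomputable def Vz (m N : ℕ) : Finset (Fin (m + 2) → ℤ) :=
  (Fintype.piFinset fun _ : Fin (m + 2) => Finset.Ico (0 : ℤ) N).filter
    (fun w => StrictAnti w ∧ w (Fin.last (m + 1)) = 0)

lemma mem_Vz (w : Fin (m + 2) → ℤ) :
    w ∈ Vz m N ↔ (∀ j, 0 ≤ w j ∧ w j < N) ∧ StrictAnti w ∧ w (Fin.last (m + 1)) = 0 := by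
  unfold Vz
  simp [Fintype.mem_piFinset, Finset.mem_Ico]

/-- the rotation -/
def rho (w : Fin (m + 2) → ℤ) : Fin (m + 2) → ℤ :=
  Fin.cons ((N : ℤ) - w (Fin.castSucc (Fin.last m)))
    (fun i : Fin (m + 1) => w (Fin.castSucc i) - w (Fin.castSucc (Fin.last m)))

/-- the inverse rotation -/
def rhoInv (u : Fin (m + 2) → ℤ) : Fin (m + 2) → ℤ :=
  Fin.snoc (fun i : Fin (m + 1) => u (Fin.succ i) + ((N : ℤ) - u 0)) 0

lemma rho_mem (w : Fin (m + 2) → ℤ) (hw : w ∈ Vz m N) : rho N w ∈ Vz m N := by
  rw [mem_Vz] at hw ⊢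
  obtain ⟨hr, hanti, hlast⟩ := hw
  have ha : 0 < w (Fin.castSucc (Fin.last m)) := by
    have := hanti (Fin.castSucc_lt_last (Fin.last m))
    rw [hlast] at this; exact this
  have hge : ∀ i : Fin (m + 1), w (Fin.castSucc (Fin.last m)) ≤ w (Fin.castSucc i) := by
    intro i
    apply hanti.antitone
    rw [Fin.castSucc_le_castSucc_iff]
    exact Fin.le_last i
  refine ⟨?_, ?_, ?_⟩
  · intro j
    refine Fin.cases ?_ (fun i => ?_) j
    · simp only [rho, Fin.cons_zero]
      have := (hr (Fin.castSucc (Fin.last m))).2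
      constructor <;> omega
    · simp only [rho, Fin.cons_succ]
      have h1 := hge i
      have h2 := (hr (Fin.castSucc i)).2
      constructor <;> omega
  · intro i j hij
    revert hij
    refine Fin.cases ?_ (fun i' => ?_) i
    · refine Fin.cases ?_ (fun j' => ?_) j
      · intro h; exact absurd h (lt_irrefl _)
      · intro _
        simp only [rho, Fin.cons_zero, Fin.cons_succ]
        have := (hr (Fin.castSucc j')).2
        omega
    · refine Fin.cases ?_ (fun j' => ?_) j
      · intro h; exact absurd h (Fin.not_lt_zero _)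
      · intro h
        simp only [rho, Fin.cons_succ]
        have h' : Fin.castSucc i' < Fin.castSucc j' := by
          rw [Fin.castSucc_lt_castSucc_iff]; exact Fin.succ_lt_succ_iff.mp h
        have := hanti h'
        omega
  · have : Fin.last (m + 1) = Fin.succ (Fin.last m) := rfl
    rw [this]
    simp only [rho, Fin.cons_succ]
    ring

lemma rhoInv_mem (u : Fin (m + 2) → ℤ) (hu : u ∈ Vz m N) : rhoInv N u ∈ Vz m N := by
  rw [mem_Vz] at hu ⊢
  obtain ⟨hr, hanti, hlast⟩ := hu
  have hlt : ∀ i : Fin (m + 1), u (Fin.succ i) < u 0 := fun i => hanti (Fin.succ_pos i)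
  refine ⟨?_, ?_, ?_⟩
  · intro j
    refine Fin.lastCases ?_ (fun i => ?_) j
    · simp only [rhoInv, Fin.snoc_last]
      have := hr 0
      constructor <;> omega
    · simp only [rhoInv, Fin.snoc_castSucc]
      have h1 := hlt i
      have h2 := hr (Fin.succ i)
      have h3 := hr 0
      constructor <;> omega
  · intro i j hij
    revert hij
    refine Fin.lastCases ?_ (fun i' => ?_) i
    · intro h; exact absurd h (not_lt.mpr (Fin.le_last _))
    · refine Fin.lastCases ?_ (fun j' => ?_) j
      · intro _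
        simp only [rhoInv, Fin.snoc_last, Fin.snoc_castSucc]
        have h2 := hr (Fin.succ i')
        have h3 := hr 0
        omega
      · intro h
        simp only [rhoInv, Fin.snoc_castSucc]
        have h' : Fin.succ i' < Fin.succ j' := by
          rw [Fin.succ_lt_succ_iff]; exact Fin.castSucc_lt_castSucc_iff.mp h
        have := hanti h'
        omega
  · simp only [rhoInv, Fin.snoc_last]

lemma rhoInv_rho (w : Fin (m + 2) → ℤ) (hw : w ∈ Vz m N) : rhoInv N (rho N w) = w := by
  rw [mem_Vz] at hw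
  obtain ⟨-, -, hlast⟩ := hw
  funext j
  refine Fin.lastCases ?_ (fun i => ?_) j
  · simp only [rhoInv, Fin.snoc_last]; exact hlast.symm
  · simp only [rhoInv, Fin.snoc_castSucc, rho, Fin.cons_zero, Fin.cons_succ]
    ring

lemma rho_rhoInv (u : Fin (m + 2) → ℤ) (hu : u ∈ Vz m N) : rho N (rhoInv N u) = u := by
  rw [mem_Vz] at hu
  obtain ⟨-, -, hlast⟩ := hu
  have hl : u (Fin.succ (Fin.last m)) = 0 := hlast
  funext j
  refine Fin.cases ?_ (fun i => ?_) j
  · simp only [rho, Fin.cons_zero, rhoInv, Fin.snoc_castSucc, hl]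
    ring
  · simp only [rho, Fin.cons_succ, rhoInv, Fin.snoc_castSucc, hl]
    ring

end H21.Verlinde
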