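import Mathlib
import Groth.Agent.H21.Verlinde.V4

set_option autoImplicit false

open Complex

namespace H21.Verlinde

variable {m : ℕ} (N M : ℕ) (α α' : Fin (m + 2) → ℕ)

lemma finRotate_castSucc' (i : Fin (m + 1)) : finRotate (m + 2) (Fin.castSucc i) = Fin.succ i := by
  apply Fin.ext
  rw [coe_finRotate_of_ne_last (Fin.castSucc_lt_last i).ne]
  simp

theorem T_rho (hC : ∀ σ τ : Equiv.Perm (Fin (m + 2)), ∑ j, Cf M α α' σ τ j = 0) (hN : N ≠ 0)
    (w : Fin (m + 2) → ℤ) (hw : w ∈ Vz m N) :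
    T N M α α' (rho N w) = E ((m + 2) * N) (-((N : ℤ) * M)) * T N M α α' w := by
  rw [mem_Vz] at hw
  obtain ⟨-, -, hlast⟩ := hw
  obtain ⟨a, ha⟩ : ∃ a, a = w (Fin.castSucc (Fin.last m)) := ⟨_, rfl⟩
  have h1 : rho N w = (fun j => (w j + (-a)) + if j = Fin.last (m + 1) then (N : ℤ) else 0) ∘
      (finRotate (m + 2)).symm := by
    funext j
    refine Fin.cases ?_ (fun i => ?_) j
    · have h0 : (finRotate (m + 2)).symm 0 = Fin.last (m + 1) := by
        rw [Equiv.symm_apply_eq]; exact finRotate_last.symm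
      simp only [Function.comp_apply, h0, rho, Fin.cons_zero, if_true, hlast, ← ha]
      ring
    · have h0 : (finRotate (m + 2)).symm (Fin.succ i) = Fin.castSucc i := by
        rw [Equiv.symm_apply_eq]; exact (finRotate_castSucc' i).symm
      simp only [Function.comp_apply, h0, rho, Fin.cons_succ, ← ha,
        if_neg (Fin.castSucc_lt_last i).ne]
      ring
  rw [h1, T_comp, T_add_single N M α α' (by omega) hN, T_add_const N M α α' hC]

/-- Case B: if `E(-(N M)) ≠ 1` the sum over the valid tuples vanishes. -/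
theorem sum_Vz_eq_zero (hC : ∀ σ τ : Equiv.Perm (Fin (m + 2)), ∑ j, Cf M α α' σ τ j = 0)
    (hN : N ≠ 0) (hne : E ((m + 2) * N) (-((N : ℤ) * M)) ≠ 1) :
    ∑ w ∈ Vz m N, T N M α α' w = 0 := by
  have h1 : ∑ w ∈ Vz m N, T N M α α' (rho N w) = ∑ w ∈ Vz m N, T N M α α' w :=
    Finset.sum_nbij' (rho N) (rhoInv N) (rho_mem N) (rhoInv_mem N) (rhoInv_rho N) (rho_rhoInv N)
      (fun _ _ => rfl)
  have h2 : ∑ w ∈ Vz m N, T N M α α' (rho N w) =
      E ((m + 2) * N) (-((N : ℤ) * M)) * ∑ w ∈ Vz m N, T N M α α' w := by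
    rw [Finset.mul_sum]
    exact Finset.sum_congr rfl (fun w hw => T_rho N M α α' hC hN w hw)
  rw [h2] at h1
  have h3 : (E ((m + 2) * N) (-((N : ℤ) * M)) - 1) * ∑ w ∈ Vz m N, T N M α α' w = 0 := by
    rw [sub_mul, h1, one_mul, sub_self]
  rcases mul_eq_zero.mp h3 with h | h
  · exact absurd (sub_eq_zero.mp h) hne
  · exact h

end H21.Verlinde
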