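import Mathlib

set_option autoImplicit false

namespace H21.Verlinde

/-- a multiple of `N` that is `< N` is `≤ 0` -/
lemma nonpos_of_dvd_of_lt {N x : ℤ} (hN : 0 < N) (h : N ∣ x) (hx : x < N) : x ≤ 0 := by
  obtain ⟨t, rfl⟩ := h
  have : t < 1 := by
    by_contra hc
    push Not at hc
    nlinarith
  nlinarith

lemma nonneg_of_dvd_of_gt {N x : ℤ} (hN : 0 < N) (h : N ∣ x) (hx : -N < x) : 0 ≤ x := by
  obtain ⟨t, rfl⟩ := h
  have : -1 < t := by
    by_contra hc
    push Not at hc
    nlinarith
  nlinarith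

/-- The combinatorial lemma. -/
theorem comb_lemma {r : ℕ} (N : ℤ) (hN : 0 < N) (A A' : Fin r → ℤ)
    (hA : StrictAnti A) (hA' : StrictAnti A')
    (hAr : ∀ i, 0 ≤ A i ∧ A i ≤ N - 1) (hA'r : ∀ i, 0 ≤ A' i ∧ A' i ≤ N - 1)
    (a : ℤ)
    (hsum : ∑ i, A i + ∑ i, A' i = (r : ℤ) * (N - 1) + (r : ℤ) * a)
    (σ τ : Equiv.Perm (Fin r))
    (hdvd : ∀ j, N ∣ A (σ j) + A' (τ j) - (N - 1) - a) :
    ∀ i, A (Fin.rev i) + A' i = N - 1 + a := by
  -- all the differences vanish
  have hsum0 : ∑ j, (A (σ j) + A' (τ j) - (N - 1) - a) = 0 := by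
    simp only [Finset.sum_sub_distrib, Finset.sum_add_distrib, Finset.sum_const, Finset.card_univ,
      Fintype.card_fin, nsmul_eq_mul]
    rw [Equiv.sum_comp σ A, Equiv.sum_comp τ A', hsum]
    ring
  have hzero : ∀ j, A (σ j) + A' (τ j) - (N - 1) - a = 0 := by
    rcases le_or_gt 0 a with h0 | h0
    · have hnp : ∀ j ∈ (Finset.univ : Finset (Fin r)),
          A (σ j) + A' (τ j) - (N - 1) - a ≤ 0 := by
        intro j _
        apply nonpos_of_dvd_of_lt hN (hdvd j)
        have h1 := (hAr (σ j)).2
        have h2 := (hA'r (τ j)).2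
        linarith
      intro j
      exact (Finset.sum_eq_zero_iff_of_nonpos hnp).mp hsum0 j (Finset.mem_univ j)
    · have hnn : ∀ j ∈ (Finset.univ : Finset (Fin r)),
          0 ≤ A (σ j) + A' (τ j) - (N - 1) - a := by
        intro j _
        apply nonneg_of_dvd_of_gt hN (hdvd j)
        have h1 := (hAr (σ j)).1
        have h2 := (hA'r (τ j)).1
        linarith
      intro j
      exact (Finset.sum_eq_zero_iff_of_nonneg hnn).mp hsum0 j (Finset.mem_univ j)
  -- compare ranges
  have hB : StrictMono (fun i => N - 1 + a - A' i) := by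
    intro i j hij
    have := hA' hij
    simp only
    linarith
  have hAr' : StrictMono (A ∘ Fin.rev) := by
    intro i j hij
    exact hA (Fin.rev_lt_rev.mpr hij)
  have hrange : Set.range (A ∘ Fin.rev) = Set.range (fun i => N - 1 + a - A' i) := by
    have e1 : Set.range (A ∘ Fin.rev) = Set.range A :=
      (Fin.rev_surjective).range_comp A
    have e2 : Set.range (A ∘ σ) = Set.range A := σ.surjective.range_comp A
    have e3 : Set.range ((fun i => N - 1 + a - A' i) ∘ τ) =
        Set.range (fun i => N - 1 + a - A' i) := τ.surjective.range_comp _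
    rw [e1, ← e2, ← e3]
    congr 1
    funext j
    have := hzero j
    simp only [Function.comp_apply]
    linarith
  have heq := (StrictMono.range_inj hAr' hB).mp hrange
  intro i
  have := congrFun heq i
  simp only [Function.comp_apply] at this
  linarith

end H21.Verlinde
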