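import Mathlib
import Groth.Agent.H21.Verlinde.V11
import Groth.Agent.H21.Verlinde.V4b
import Groth.Agent.H21.Verlinde.V6

set_option autoImplicit false

open Complex

namespace H21.Verlinde

lemma sum_stair (r : ℕ) : (∑ i : Fin r, (r - 1 - (i : ℕ))) * 2 = r * (r - 1) := by
  have h1 : ∑ i : Fin r, (r - 1 - (i : ℕ)) = ∑ i : Fin r, (i : ℕ) := by
    rw [← Equiv.sum_comp Fin.revPerm (fun i : Fin r => (i : ℕ))]
    refine Finset.sum_congr rfl (fun i _ => ?_)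
    simp only [Fin.revPerm_apply, Fin.val_rev]
    omega
  rw [h1, Fin.sum_univ_eq_sum_range (fun i => i) r, Finset.sum_range_id_mul_two]

lemma sum_stair_int (r : ℕ) (hr : 1 ≤ r) :
    2 * ∑ i : Fin r, ((r - 1 - (i : ℕ) : ℕ) : ℤ) = (r : ℤ) * ((r : ℤ) - 1) := by
  have h := congrArg (Nat.cast : ℕ → ℤ) (sum_stair r)
  rw [Nat.cast_mul, Nat.cast_mul, Nat.cast_sum, Nat.cast_sub hr] at h
  push_cast at h
  linarith

lemma hC_of {r : ℕ} (hr : 1 ≤ r) (lam lam' : Fin r → ℕ) (σ τ : Equiv.Perm (Fin r)) :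
    ∑ j, Cf (∑ i, lam i + ∑ i, lam' i) (fun i => lam i + (r - 1 - (i : ℕ)))
      (fun i => lam' i + (r - 1 - (i : ℕ))) σ τ j = 0 := by
  unfold Cf
  have h1 := Equiv.sum_comp σ (fun i => ((lam i + (r - 1 - (i : ℕ)) : ℕ) : ℤ))
  have h2 := Equiv.sum_comp τ (fun i => ((lam' i + (r - 1 - (i : ℕ)) : ℕ) : ℤ))
  simp only [Finset.sum_sub_distrib, ← Finset.mul_sum, Finset.sum_add_distrib, Finset.sum_const,
    Finset.card_univ, Fintype.card_fin, nsmul_eq_mul]
  rw [h1, h2]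
  have h3 := sum_stair_int r hr
  simp only [Nat.cast_add, Finset.sum_add_distrib, Nat.cast_sum]
  linear_combination (r : ℤ) * h3

lemma hno_of {n : ℕ} (k : ℕ) (lam lam' : Fin (n + 1) → ℕ) (hlam : Antitone lam)
    (hlamk : ∀ i, lam i ≤ k) (hlam' : Antitone lam') (hlam'k : ∀ i, lam' i ≤ k)
    (hne : ¬ ∃ a : ℤ, ∀ i, (lam i : ℤ) - ((k - lam' (Fin.rev i) : ℕ) : ℤ) = a)
    (M' : ℕ) (hM : ∑ i, lam i + ∑ i, lam' i = (n + 1) * M')
    (α α' : Fin (n + 1) → ℕ) (hα : ∀ i, α i = lam i + (n - (i : ℕ)))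
    (hα' : ∀ i, α' i = lam' i + (n - (i : ℕ)))
    (σ τ : Equiv.Perm (Fin (n + 1))) :
    ∃ j : Fin n, ¬ ((n + 1 + k : ℕ) : ℤ) ∣
      ((α (σ (Fin.castSucc j)) : ℤ) + (α' (τ (Fin.castSucc j)) : ℤ) - (n : ℤ) - M') := by
  by_contra hcon
  push Not at hcon
  -- the staircase sum
  have hS : 2 * ∑ i : Fin (n + 1), ((n - (i : ℕ) : ℕ) : ℤ) = ((n : ℤ) + 1) * (n : ℤ) := by
    have := sum_stair_int (n + 1) (by omega)
    simp only [Nat.add_sub_cancel] at this
    rw [this]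
    push_cast
    ring
  have hαsum : ∑ i, (α i : ℤ) = ∑ i, (lam i : ℤ) + ∑ i : Fin (n + 1), ((n - (i : ℕ) : ℕ) : ℤ) := by
    rw [← Finset.sum_add_distrib]
    refine Finset.sum_congr rfl (fun i _ => ?_)
    rw [hα]
    push_cast
    rfl
  have hα'sum : ∑ i, (α' i : ℤ) =
      ∑ i, (lam' i : ℤ) + ∑ i : Fin (n + 1), ((n - (i : ℕ) : ℕ) : ℤ) := by
    rw [← Finset.sum_add_distrib]
    refine Finset.sum_congr rfl (fun i _ => ?_)
    rw [hα']
    push_cast
    rfl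
  have hMz : ∑ i, (lam i : ℤ) + ∑ i, (lam' i : ℤ) = ((n : ℤ) + 1) * M' := by
    have := congrArg (Nat.cast : ℕ → ℤ) hM
    push_cast at this
    exact this
  have hsum0 : ∑ j : Fin (n + 1), ((α (σ j) : ℤ) + (α' (τ j) : ℤ) - (n : ℤ) - M') = 0 := by
    simp only [Finset.sum_sub_distrib, Finset.sum_add_distrib, Finset.sum_const, Finset.card_univ,
      Fintype.card_fin, nsmul_eq_mul]
    rw [Equiv.sum_comp σ (fun i => (α i : ℤ)), Equiv.sum_comp τ (fun i => (α' i : ℤ)), hαsum,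
      hα'sum]
    push_cast
    linear_combination hMz + hS
  have hall : ∀ j : Fin (n + 1), ((n + 1 + k : ℕ) : ℤ) ∣
      ((α (σ j) : ℤ) + (α' (τ j) : ℤ) - (n : ℤ) - M') := by
    intro j
    refine Fin.lastCases ?_ (fun i => hcon i) j
    rw [Fin.sum_univ_castSucc] at hsum0
    have : (α (σ (Fin.last n)) : ℤ) + (α' (τ (Fin.last n)) : ℤ) - (n : ℤ) - M' =
        -∑ i : Fin n, ((α (σ (Fin.castSucc i)) : ℤ) + (α' (τ (Fin.castSucc i)) : ℤ) - (n : ℤ) - M') := by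
      linarith
    rw [this, dvd_neg]
    exact Finset.dvd_sum (fun i _ => hcon i)
  have hN : (0 : ℤ) < ((n + 1 + k : ℕ) : ℤ) := by positivity
  have hSA : ∀ (μ : Fin (n + 1) → ℕ) (β : Fin (n + 1) → ℕ), Antitone μ →
      (∀ i, β i = μ i + (n - (i : ℕ))) → StrictAnti (fun i => (β i : ℤ)) := by
    intro μ β hμ hβ i j hij
    have h1 := hμ hij.le
    have h2 : (i : ℕ) < (j : ℕ) := hij
    have h3 := j.is_lt
    simp only
    rw [hβ i, hβ j]
    have : μ j + (n - (j : ℕ)) < μ i + (n - (i : ℕ)) := by omega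
    exact_mod_cast this
  have hR : ∀ (μ : Fin (n + 1) → ℕ) (β : Fin (n + 1) → ℕ), (∀ i, μ i ≤ k) →
      (∀ i, β i = μ i + (n - (i : ℕ))) →
      ∀ i, (0 : ℤ) ≤ (β i : ℤ) ∧ (β i : ℤ) ≤ ((n + 1 + k : ℕ) : ℤ) - 1 := by
    intro μ β hμ hβ i
    refine ⟨by positivity, ?_⟩
    have h1 := hμ i
    have : β i ≤ n + k := by rw [hβ]; omega
    push_cast
    have : (β i : ℤ) ≤ n + k := by exact_mod_cast this
    linarith
  have hcomb := comb_lemma (r := n + 1) ((n + 1 + k : ℕ) : ℤ) hN (fun i => (α i : ℤ))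
    (fun i => (α' i : ℤ)) (hSA lam α hlam hα) (hSA lam' α' hlam' hα') (hR lam α hlamk hα)
    (hR lam' α' hlam'k hα') ((M' : ℤ) - k)
    (by
      rw [hαsum, hα'sum]
      push_cast
      linear_combination hMz + hS) σ τ
    (by
      intro j
      have := hall j
      convert this using 1
      push_cast
      ring)
  apply hne
  refine ⟨(M' : ℤ) - k, fun i => ?_⟩
  have h1 := hcomb (Fin.rev i)
  rw [Fin.rev_rev] at h1
  rw [hα, hα'] at h1
  rw [Nat.cast_sub (hlam'k _)]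
  have h2 : ((Fin.rev i : Fin (n + 1)) : ℕ) = n - (i : ℕ) := by
    rw [Fin.val_rev]; omega
  rw [h2] at h1
  have h3 : (i : ℕ) ≤ n := by have := i.is_lt; omega
  push_cast [Nat.cast_sub h3, Nat.cast_sub (Nat.sub_le n (i : ℕ))] at h1
  linarith

lemma sum_V0_eq_sum_Vz {m : ℕ} (N : ℕ) (f : (Fin (m + 2) → ℤ) → ℂ) :
    ∑ v ∈ (Finset.univ : Finset (Fin (m + 2) → Fin N)).filter
        (fun v => StrictAnti v ∧ ((v (Fin.last (m + 1)) : Fin N) : ℕ) = 0),
      f (fun j => (((v j : Fin N) : ℕ) : ℤ)) = ∑ w ∈ Vz m N, f w := by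
  classical
  refine Finset.sum_nbij (fun v j => (((v j : Fin N) : ℕ) : ℤ)) ?_ ?_ ?_ (fun _ _ => rfl)
  · intro v hv
    simp only [Finset.mem_filter, Finset.mem_univ, true_and] at hv
    rw [mem_Vz]
    refine ⟨fun j => ⟨by positivity, by exact_mod_cast (v j).is_lt⟩, ?_, ?_⟩
    · intro i j hij
      have := hv.1 hij
      rw [Fin.lt_def] at this
      show (((v j : Fin N) : ℕ) : ℤ) < (((v i : Fin N) : ℕ) : ℤ)
      exact_mod_cast this
    · exact_mod_cast hv.2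
  · intro v _ v' _ h
    funext j
    apply Fin.ext
    have : (((v j : Fin N) : ℕ) : ℤ) = (((v' j : Fin N) : ℕ) : ℤ) := congrFun h j
    exact_mod_cast this
  · intro w hw
    have hw' := (mem_Vz N w).mp hw
    refine ⟨fun j => ⟨(w j).toNat, ?_⟩, ?_, ?_⟩
    · have := hw'.1 j
      omega
    · simp only [Finset.coe_filter, Finset.mem_univ, true_and, Set.mem_ofPred_eq]
      refine ⟨?_, ?_⟩
      · intro i j hij
        have := hw'.2.1 hij
        have h1 := hw'.1 i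
        have h2 := hw'.1 j
        rw [Fin.lt_def]
        simp only
        omega
      · simp only [hw'.2.2, Int.toNat_zero]
    · funext j
      have := hw'.1 j
      simp only
      omega

theorem main (m k : ℕ) (lam lam' : Fin (m + 2) → ℕ) (hlam : Antitone lam)
    (hlamk : ∀ i, lam i ≤ k) (hlam' : Antitone lam') (hlam'k : ∀ i, lam' i ≤ k)
    (hne : ¬ ∃ a : ℤ, ∀ i, (lam i : ℤ) - ((k - lam' (Fin.rev i) : ℕ) : ℤ) = a) :
    ∑ v ∈ (Finset.univ : Finset (Fin (m + 2) → Fin (m + 2 + k))).filter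
        (fun v => StrictAnti v ∧ ((v (Fin.last (m + 1)) : Fin (m + 2 + k)) : ℕ) = 0),
      T (m + 2 + k) (∑ i, lam i + ∑ i, lam' i) (fun i => lam i + (m + 2 - 1 - (i : ℕ)))
        (fun i => lam' i + (m + 2 - 1 - (i : ℕ)))
        (fun j => (((v j : Fin (m + 2 + k)) : ℕ) : ℤ)) = 0 := by
  have hN : m + 2 + k ≠ 0 := by omega
  by_cases hdiv : (m + 2) ∣ (∑ i, lam i + ∑ i, lam' i)
  · obtain ⟨M', hM'⟩ := hdiv
    refine caseA (n := m + 1) (m + 2 + k) (∑ i, lam i + ∑ i, lam' i) _ _ M' hM' hN ?_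
    intro σ τ
    exact hno_of (n := m + 1) k lam lam' hlam hlamk hlam' hlam'k hne M' hM'
      (fun i => lam i + (m + 2 - 1 - (i : ℕ))) (fun i => lam' i + (m + 2 - 1 - (i : ℕ)))
      (fun i => rfl) (fun i => rfl) σ τ
  · rw [sum_V0_eq_sum_Vz (m + 2 + k) (T (m + 2 + k) (∑ i, lam i + ∑ i, lam' i)
      (fun i => lam i + (m + 2 - 1 - (i : ℕ))) (fun i => lam' i + (m + 2 - 1 - (i : ℕ))))]
    apply sum_Vz_eq_zero
    · exact hC_of (by omega) lam lam'
    · exact hN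
    · intro h
      rw [E_eq_one_iff _ (by positivity), dvd_neg] at h
      apply hdiv
      have h' : (m + 2) * (m + 2 + k) ∣ (∑ i, lam i + ∑ i, lam' i) * (m + 2 + k) := by
        rw [mul_comm (∑ i, lam i + ∑ i, lam' i)]
        exact_mod_cast h
      exact Nat.dvd_of_mul_dvd_mul_right (by omega) h'

end H21.Verlinde
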