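import Mathlib
import Groth.Agent.H21.Verlinde.V11
import Groth.Agent.H21.Verlinde.V9

set_option autoImplicit false

open Complex

namespace H21.Verlinde

section fourier

variable {n : ℕ} (N M' : ℕ) (α α' : Fin (n + 1) → ℕ)

/-- the general Fourier formula -/
theorem sum_snoc_eq :
    ∑ u : Fin n → Fin N,
      T N ((n + 1) * M') α α' (Fin.snoc (fun i => (((u i : Fin N) : ℕ) : ℤ)) 0) =
    ∑ σ : Equiv.Perm (Fin (n + 1)), ∑ τ : Equiv.Perm (Fin (n + 1)),
      ((Equiv.Perm.sign σ : ℤ) : ℂ) * ((Equiv.Perm.sign τ : ℤ) : ℂ) *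
      ∏ j : Fin n, ∑ x : Fin N, E N ((((x : Fin N) : ℕ) : ℤ) *
        ((α (σ (Fin.castSucc j)) : ℤ) + (α' (τ (Fin.castSucc j)) : ℤ) - (n : ℤ) - M')) := by
  classical
  unfold T
  rw [Finset.sum_comm]
  refine Finset.sum_congr rfl (fun σ _ => ?_)
  rw [Finset.sum_comm]
  refine Finset.sum_congr rfl (fun τ _ => ?_)
  unfold Fst
  rw [← Finset.mul_sum]
  congr 1
  have h1 : ∀ u : Fin n → Fin N,
      E ((n + 1) * N) (∑ j, (Fin.snoc (fun i => (((u i : Fin N) : ℕ) : ℤ)) 0 : Fin (n + 1) → ℤ) j *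
        Cf ((n + 1) * M') α α' σ τ j) =
      ∏ j : Fin n, E N ((((u j : Fin N) : ℕ) : ℤ) *
        ((α (σ (Fin.castSucc j)) : ℤ) + (α' (τ (Fin.castSucc j)) : ℤ) - (n : ℤ) - M')) := by
    intro u
    rw [Fin.sum_univ_castSucc]
    simp only [Fin.snoc_castSucc, Fin.snoc_last, zero_mul, add_zero]
    rw [E_sum]
    refine Finset.prod_congr rfl (fun j _ => ?_)
    rw [← E_mul_left (n + 1) N (by omega)]
    congr 1
    unfold Cf
    push_cast
    ring
  simp_rw [h1]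
  have h2 := Finset.prod_univ_sum (fun _ : Fin n => (Finset.univ : Finset (Fin N)))
    (fun (j : Fin n) (x : Fin N) => E N ((((x : Fin N) : ℕ) : ℤ) *
        ((α (σ (Fin.castSucc j)) : ℤ) + (α' (τ (Fin.castSucc j)) : ℤ) - (n : ℤ) - M')))
  rw [Fintype.piFinset_univ] at h2
  exact h2.symm

lemma sum_E_fin_dvd (hN : N ≠ 0) (c : ℤ) (hc : (N : ℤ) ∣ c) :
    ∑ x : Fin N, E N (((x : ℕ) : ℤ) * c) = N := by
  have h1 : ∀ x : Fin N, E N (((x : ℕ) : ℤ) * c) = 1 := fun x =>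
    (E_eq_one_iff N hN _).mpr (dvd_mul_of_dvd_right hc _)
  simp_rw [h1]
  simp

lemma perm_eq_of_castSucc {σ τ : Equiv.Perm (Fin (n + 1))}
    (h : ∀ j : Fin n, τ (Fin.castSucc j) = σ (Fin.castSucc j)) : τ = σ := by
  apply Equiv.ext
  intro x
  refine Fin.lastCases ?_ (fun j => h j) x
  by_contra hne
  obtain ⟨z, hz⟩ := σ.surjective (τ (Fin.last n))
  have hzl : z ≠ Fin.last n := by
    intro hzl
    rw [hzl] at hz
    exact hne hz.symm
  obtain ⟨j, rfl⟩ := Fin.exists_castSucc_eq.mpr hzl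
  rw [← h j] at hz
  exact hzl (τ.injective hz)

end fourier

section delta

variable {n : ℕ} (N : ℕ)

/-- the staircase -/
def delta (n : ℕ) : Fin (n + 1) → ℕ := fun i => n + 1 - 1 - (i : ℕ)

lemma prod_sum_delta (hN : n < N) (σ τ : Equiv.Perm (Fin (n + 1))) :
    ∏ j : Fin n, ∑ x : Fin N, E N ((((x : Fin N) : ℕ) : ℤ) *
        ((delta n (σ (Fin.castSucc j)) : ℤ) + (delta n (τ (Fin.castSucc j)) : ℤ) - (n : ℤ) -
          ((0 : ℕ) : ℤ))) =
      if τ = Fin.revPerm * σ then (N : ℂ) ^ n else 0 := by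
  have hN0 : N ≠ 0 := by omega
  split_ifs with h
  · have h1 : ∀ j : Fin n, ∑ x : Fin N, E N ((((x : Fin N) : ℕ) : ℤ) *
        ((delta n (σ (Fin.castSucc j)) : ℤ) + (delta n (τ (Fin.castSucc j)) : ℤ) - (n : ℤ) -
          ((0 : ℕ) : ℤ))) = N := by
      intro j
      apply sum_E_fin_dvd N hN0
      rw [h]
      simp only [Equiv.Perm.coe_mul, Function.comp_apply, Fin.revPerm_apply, delta, Fin.val_rev]
      have := (σ (Fin.castSucc j)).is_lt
      have h2 : n + 1 - 1 - (n + 1 - ((σ (Fin.castSucc j) : ℕ) + 1)) = (σ (Fin.castSucc j) : ℕ) := by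
        omega
      rw [h2]
      have h3 : ((n + 1 - 1 - (σ (Fin.castSucc j) : ℕ) : ℕ) : ℤ) = (n : ℤ) - (σ (Fin.castSucc j) : ℕ) := by
        omega
      rw [h3]
      simp
    simp_rw [h1]
    simp
  · have hex : ∃ j : Fin n, τ (Fin.castSucc j) ≠ ((Fin.revPerm : Equiv.Perm (Fin (n + 1))) * σ) (Fin.castSucc j) := by
      by_contra hcon
      push Not at hcon
      exact h (perm_eq_of_castSucc hcon)
    obtain ⟨j, hj⟩ := hex
    apply Finset.prod_eq_zero (Finset.mem_univ j)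
    apply sum_E_fin N hN0
    intro hdvd
    simp only [Equiv.Perm.coe_mul, Function.comp_apply, Fin.revPerm_apply] at hj
    have ha := (σ (Fin.castSucc j)).is_lt
    have hb := (τ (Fin.castSucc j)).is_lt
    have hne : (τ (Fin.castSucc j) : ℕ) ≠ n - (σ (Fin.castSucc j) : ℕ) := by
      intro heq
      apply hj
      apply Fin.ext
      rw [Fin.val_rev]
      omega
    simp only [delta] at hdvd
    obtain ⟨t, ht⟩ := hdvd
    have h3 : ((n + 1 - 1 - (σ (Fin.castSucc j) : ℕ) : ℕ) : ℤ) = (n : ℤ) - (σ (Fin.castSucc j) : ℕ) := by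
      omega
    have h4 : ((n + 1 - 1 - (τ (Fin.castSucc j) : ℕ) : ℕ) : ℤ) = (n : ℤ) - (τ (Fin.castSucc j) : ℕ) := by
      omega
    rw [h3, h4] at ht
    have hNz : (n : ℤ) < (N : ℤ) := by exact_mod_cast hN
    have hL1 : -(n : ℤ) ≤ (N : ℤ) * t := by rw [← ht]; push_cast; omega
    have hL2 : (N : ℤ) * t ≤ (n : ℤ) := by rw [← ht]; push_cast; omega
    have ht0 : t = 0 := by
      by_contra ht0
      rcases lt_or_gt_of_ne ht0 with hlt | hgt
      · have h5 : t ≤ -1 := by omega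
        have h6 : (N : ℤ) * t ≤ -(N : ℤ) := by nlinarith
        omega
      · have h5 : 1 ≤ t := by omega
        have h6 : (N : ℤ) ≤ (N : ℤ) * t := by nlinarith
        omega
    rw [ht0, mul_zero] at ht
    omega

theorem sum_all_delta (hN : n < N) :
    ∑ u : Fin n → Fin N, fA N 0 (delta n) (delta n) u =
      ((n + 1).factorial : ℂ) * ((Equiv.Perm.sign (Fin.revPerm : Equiv.Perm (Fin (n + 1))) : ℤ) : ℂ) *
        (N : ℂ) ^ n := by
  classical
  have h := sum_snoc_eq N 0 (delta n) (delta n) (n := n)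
  rw [mul_zero] at h
  unfold fA
  rw [h]
  simp_rw [prod_sum_delta N hN]
  have h1 : ∀ σ : Equiv.Perm (Fin (n + 1)), ∑ τ : Equiv.Perm (Fin (n + 1)),
      ((Equiv.Perm.sign σ : ℤ) : ℂ) * ((Equiv.Perm.sign τ : ℤ) : ℂ) *
        (if τ = Fin.revPerm * σ then (N : ℂ) ^ n else 0) =
      ((Equiv.Perm.sign (Fin.revPerm : Equiv.Perm (Fin (n + 1))) : ℤ) : ℂ) * (N : ℂ) ^ n := by
    intro σ
    rw [Finset.sum_eq_single (Fin.revPerm * σ)]
    · rw [if_pos rfl, Equiv.Perm.sign_mul]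
      congr 1
      have : ((Equiv.Perm.sign σ : ℤ) : ℂ) * ((Equiv.Perm.sign σ : ℤ) : ℂ) = 1 := by
        rw [← Int.cast_mul, ← Units.val_mul, Int.units_mul_self]
        simp
      push_cast
      rw [mul_comm ((Equiv.Perm.sign (Fin.revPerm : Equiv.Perm (Fin (n + 1))) : ℤ) : ℂ), ← mul_assoc,
        this, one_mul]
    · intro τ _ hτ
      rw [if_neg hτ, mul_zero]
    · intro h; exact absurd (Finset.mem_univ _) h
  simp_rw [h1]
  rw [Finset.sum_const, Finset.card_univ, Fintype.card_perm, Fintype.card_fin, nsmul_eq_mul]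
  ring

theorem sum_SA_delta (hN : n < N) :
    ∑ u ∈ (Finset.univ : Finset (Fin n → Fin N)).filter StrictAnti, fA N 0 (delta n) (delta n) u =
      ((n : ℂ) + 1) * ((Equiv.Perm.sign (Fin.revPerm : Equiv.Perm (Fin (n + 1))) : ℤ) : ℂ) *
        (N : ℂ) ^ n := by
  have hN0 : N ≠ 0 := by omega
  have h5 := sum_eq_factorial_mul_sum_strictAnti (fA N 0 (delta n) (delta n))
    (fA_symm N 0 (delta n) (delta n)) (fA_zero N 0 (delta n) (delta n) hN0)
  rw [sum_all_delta N hN] at h5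
  have hfac : (n.factorial : ℂ) ≠ 0 := by exact_mod_cast Nat.factorial_ne_zero n
  apply mul_left_cancel₀ hfac
  rw [← h5, Nat.factorial_succ]
  push_cast
  ring

end delta

end H21.Verlinde
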