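import Mathlib
import Groth.Agent.H21.Verlinde.V13

set_option autoImplicit false

open Complex

namespace H21.Verlinde

/-- the sine product as a `T`-value -/
lemma P_eq_T (n N : ℕ) (v : Fin (n + 1) → ℕ) :
    ((∏ p ∈ (Finset.univ : Finset (Fin (n + 1) × Fin (n + 1))).filter (fun p => p.1 < p.2),
        ((2 : ℝ) * Real.sin (Real.pi * ((v p.1 : ℝ) - (v p.2 : ℝ)) / (N : ℝ))) ^ 2 : ℝ) : ℂ) =
      (∏ _p ∈ (Finset.univ : Finset (Fin (n + 1) × Fin (n + 1))).filter (fun p => p.1 < p.2),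
        (-1 : ℂ)) * T N 0 (delta n) (delta n) (fun j => (v j : ℤ)) := by
  rw [P_eq N (Nat.succ_ne_zero n) v, T_eq_det]
  have hd : (fun i : Fin (n + 1) => n + 1 - 1 - (i : ℕ)) = delta n := rfl
  rw [hd]
  have hE : E ((n + 1) * N) (-((((n + 1 : ℕ) : ℤ) * (((n + 1 : ℕ) : ℤ) - 1) + ((0 : ℕ) : ℤ)) *
      ∑ j, (v j : ℤ))) =
      E ((n + 1) * N) (-(((n + 1 : ℕ) : ℤ) * (((n + 1 : ℕ) : ℤ) - 1) * ∑ j, (v j : ℤ))) := by
    congr 1
    push_cast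
    ring
  rw [hE]
  ring

theorem sum_P (n k : ℕ) :
    ((∑ v ∈ (Finset.univ : Finset (Fin (n + 1) → Fin (n + 1 + k))).filter
        (fun v => StrictAnti v ∧ ((v (Fin.last n) : Fin (n + 1 + k)) : ℕ) = 0),
      ∏ p ∈ (Finset.univ : Finset (Fin (n + 1) × Fin (n + 1))).filter (fun p => p.1 < p.2),
        ((2 : ℝ) * Real.sin (Real.pi * (((v p.1 : ℕ) : ℝ) - ((v p.2 : ℕ) : ℝ)) /
          ((n + 1 + k : ℕ) : ℝ))) ^ 2 : ℝ) : ℂ) =
      ((∏ _p ∈ (Finset.univ : Finset (Fin (n + 1) × Fin (n + 1))).filter (fun p => p.1 < p.2),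
        (-1 : ℂ)) * ((Equiv.Perm.sign (Fin.revPerm : Equiv.Perm (Fin (n + 1))) : ℤ) : ℂ)) *
        (((n : ℂ) + 1) * ((n + 1 + k : ℕ) : ℂ) ^ n) := by
  rw [Complex.ofReal_sum]
  have h1 : ∀ v ∈ (Finset.univ : Finset (Fin (n + 1) → Fin (n + 1 + k))).filter
        (fun v => StrictAnti v ∧ ((v (Fin.last n) : Fin (n + 1 + k)) : ℕ) = 0),
      ((∏ p ∈ (Finset.univ : Finset (Fin (n + 1) × Fin (n + 1))).filter (fun p => p.1 < p.2),
        ((2 : ℝ) * Real.sin (Real.pi * (((v p.1 : ℕ) : ℝ) - ((v p.2 : ℕ) : ℝ)) /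
          ((n + 1 + k : ℕ) : ℝ))) ^ 2 : ℝ) : ℂ) =
      (∏ _p ∈ (Finset.univ : Finset (Fin (n + 1) × Fin (n + 1))).filter (fun p => p.1 < p.2),
        (-1 : ℂ)) * T (n + 1 + k) 0 (delta n) (delta n)
          (fun j => (((v j : Fin (n + 1 + k)) : ℕ) : ℤ)) := by
    intro v _
    exact P_eq_T n (n + 1 + k) (fun j => ((v j : Fin (n + 1 + k)) : ℕ))
  rw [Finset.sum_congr rfl h1, ← Finset.mul_sum,
    sum_V0_eq_sum_SA (n + 1 + k) 0 (delta n) (delta n) (by omega),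
    sum_SA_delta (n + 1 + k) (by omega)]
  ring

end H21.Verlinde
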