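import Mathlib
import Groth.Agent.H21.Verlinde.V13

set_option autoImplicit false

open Complex

namespace H21.Verlinde

section bmat

variable {r : ℕ} (N : ℕ)

/-- the matrix `(ζ^{v_j α_i})` -/
noncomputable def Bmat (v : Fin r → ℤ) (α : Fin r → ℕ) : Matrix (Fin r) (Fin r) ℂ :=
  Matrix.of fun i j => E N (v j) ^ (α i)

lemma Bmat_det (v : Fin r → ℤ) (α : Fin r → ℕ) :
    (Bmat N v α).det = ∑ σ : Equiv.Perm (Fin r), ((Equiv.Perm.sign σ : ℤ) : ℂ) *
      ∏ i, E N ((α i : ℤ) * v (σ i)) := by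
  rw [← Matrix.det_transpose, Matrix.det_apply']
  refine Finset.sum_congr rfl (fun σ _ => ?_)
  congr 1
  refine Finset.prod_congr rfl (fun i _ => ?_)
  rw [Matrix.transpose_apply]
  unfold Bmat
  rw [Matrix.of_apply, E_pow]

/-- the product of the two determinants -/
noncomputable def G (v : Fin r → ℤ) (α : Fin r → ℕ) : ℂ :=
  (Bmat N v α).det * (Bmat N (fun j => -v j) α).det

lemma G_eq (v : Fin r → ℤ) (α : Fin r → ℕ) :
    G N v α = ∑ σ : Equiv.Perm (Fin r), ∑ τ : Equiv.Perm (Fin r),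
      ((Equiv.Perm.sign σ : ℤ) : ℂ) * ((Equiv.Perm.sign τ : ℤ) : ℂ) *
        ∏ i, E N ((α i : ℤ) * (v (σ i) - v (τ i))) := by
  unfold G
  rw [Bmat_det, Bmat_det, Finset.sum_mul_sum]
  refine Finset.sum_congr rfl (fun σ _ => Finset.sum_congr rfl (fun τ _ => ?_))
  rw [mul_mul_mul_comm, ← Finset.prod_mul_distrib]
  congr 1
  refine Finset.prod_congr rfl (fun i _ => ?_)
  rw [← E_add]
  congr 1
  ring

lemma G_comp (v : Fin r → ℤ) (α : Fin r → ℕ) (π : Equiv.Perm (Fin r)) :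
    G N v (α ∘ π) = G N v α := by
  have h : ∀ w : Fin r → ℤ, (Bmat N w (α ∘ π)).det =
      ((Equiv.Perm.sign π : ℤ) : ℂ) * (Bmat N w α).det := by
    intro w
    have : Bmat N w (α ∘ π) = (Bmat N w α).submatrix π id := by
      ext i j
      simp [Bmat]
    rw [this, Matrix.det_permute]
  unfold G
  rw [h, h]
  have hs : ((Equiv.Perm.sign π : ℤ) : ℂ) * ((Equiv.Perm.sign π : ℤ) : ℂ) = 1 := by
    rw [← Int.cast_mul, ← Units.val_mul, Int.units_mul_self]
    simp
  calc ((Equiv.Perm.sign π : ℤ) : ℂ) * (Bmat N v α).det *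
        (((Equiv.Perm.sign π : ℤ) : ℂ) * (Bmat N (fun j => -v j) α).det)
      = (((Equiv.Perm.sign π : ℤ) : ℂ) * ((Equiv.Perm.sign π : ℤ) : ℂ)) *
        ((Bmat N v α).det * (Bmat N (fun j => -v j) α).det) := by ring
    _ = _ := by rw [hs, one_mul]

lemma G_eq_zero (v : Fin r → ℤ) (α : Fin r → ℕ) (h : ¬ Function.Injective α) : G N v α = 0 := by
  unfold Function.Injective at h
  push Not at h
  obtain ⟨i, j, hij, hne⟩ := h
  unfold G
  have : (Bmat N v α).det = 0 := by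
    apply Matrix.det_zero_of_row_eq hne
    funext l
    simp [Bmat, hij]
  rw [this, zero_mul]

/-- summing `G` over all tuples with values in `Fin M` -/
lemma sum_G (M : ℕ) (v : Fin r → ℤ) :
    ∑ α : Fin r → Fin M, G N v (fun i => ((α i : Fin M) : ℕ)) =
      ∑ σ : Equiv.Perm (Fin r), ∑ τ : Equiv.Perm (Fin r),
        ((Equiv.Perm.sign σ : ℤ) : ℂ) * ((Equiv.Perm.sign τ : ℤ) : ℂ) *
          ∏ i, ∑ a : Fin M, E N ((((a : Fin M) : ℕ) : ℤ) * (v (σ i) - v (τ i))) := by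
  classical
  simp_rw [G_eq]
  rw [Finset.sum_comm]
  refine Finset.sum_congr rfl (fun σ _ => ?_)
  rw [Finset.sum_comm]
  refine Finset.sum_congr rfl (fun τ _ => ?_)
  rw [← Finset.mul_sum]
  congr 1
  have h2 := Finset.prod_univ_sum (fun _ : Fin r => (Finset.univ : Finset (Fin M)))
    (fun (i : Fin r) (a : Fin M) => E N ((((a : Fin M) : ℕ) : ℤ) * (v (σ i) - v (τ i))))
  rw [Fintype.piFinset_univ] at h2
  exact h2.symm

/-- the truncated geometric sum -/
lemma sum_E_trunc (M : ℕ) (d : ℤ) :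
    ∑ a : Fin M, E (M + 1) ((((a : Fin M) : ℕ) : ℤ) * d) =
      (if ((M + 1 : ℕ) : ℤ) ∣ d then ((M + 1 : ℕ) : ℂ) else 0) - E (M + 1) (-d) := by
  have h1 := Fin.sum_univ_castSucc (fun a : Fin (M + 1) => E (M + 1) ((((a : Fin (M + 1)) : ℕ) : ℤ) * d))
  simp only [Fin.val_castSucc, Fin.val_last] at h1
  have h2 : E (M + 1) ((M : ℤ) * d) = E (M + 1) (-d) := by
    have : (M : ℤ) * d = ((M + 1 : ℕ) : ℤ) * d + (-d) := by push_cast; ring
    rw [this, E_add, E_mul_self (M + 1) (Nat.succ_ne_zero M), one_mul]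
  rw [h2] at h1
  split_ifs with hd
  · rw [sum_E_fin_dvd (M + 1) (Nat.succ_ne_zero M) d hd] at h1
    rw [h1]; ring
  · rw [sum_E_fin (M + 1) (Nat.succ_ne_zero M) d hd] at h1
    rw [eq_sub_iff_add_eq, ← h1]

/-- the double sum over permutations of a product is `r!` times a determinant -/
lemma double_sum_eq_det (K : Matrix (Fin r) (Fin r) ℂ) :
    ∑ σ : Equiv.Perm (Fin r), ∑ τ : Equiv.Perm (Fin r),
      ((Equiv.Perm.sign σ : ℤ) : ℂ) * ((Equiv.Perm.sign τ : ℤ) : ℂ) * ∏ i, K (σ i) (τ i) =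
      (r.factorial : ℂ) * K.det := by
  have h1 : ∀ σ : Equiv.Perm (Fin r), ∑ τ : Equiv.Perm (Fin r),
      ((Equiv.Perm.sign σ : ℤ) : ℂ) * ((Equiv.Perm.sign τ : ℤ) : ℂ) * ∏ i, K (σ i) (τ i) =
      K.det := by
    intro σ
    rw [← Matrix.det_transpose, Matrix.det_apply']
    rw [← Equiv.sum_comp (Equiv.mulRight σ⁻¹)
      (fun ρ => ((Equiv.Perm.sign ρ : ℤ) : ℂ) * ∏ i, K.transpose (ρ i) i)]
    refine Finset.sum_congr rfl (fun τ _ => ?_)
    simp only [Equiv.coe_mulRight, Equiv.Perm.sign_mul, Matrix.transpose_apply,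
      Equiv.Perm.coe_mul, Function.comp_apply, Equiv.Perm.sign_inv]
    have hprod : ∏ i, K i (τ (σ⁻¹ i)) = ∏ i, K (σ i) (τ i) := by
      rw [← Equiv.prod_comp σ (fun i => K i (τ (σ⁻¹ i)))]
      refine Finset.prod_congr rfl (fun i _ => ?_)
      simp
    rw [hprod]
    push_cast
    ring
  simp_rw [h1]
  rw [Finset.sum_const, Finset.card_univ, Fintype.card_perm, Fintype.card_fin, nsmul_eq_mul]

end bmat

section kmat

variable {r : ℕ} (N : ℕ) (v : Fin r → ℤ)

/-- the kernel matrix -/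
noncomputable def Kmat : Matrix (Fin r) (Fin r) ℂ :=
  Matrix.of fun a b => (if a = b then (N : ℂ) else 0) - E N (-(v a - v b))

lemma det_Kmat (hN : N ≠ 0) : (Kmat N v).det * (N : ℂ) = (N : ℂ) ^ r * ((N : ℂ) - r) := by
  have hN' : (N : ℂ) ≠ 0 := Nat.cast_ne_zero.mpr hN
  have hK : Kmat N v = (N : ℂ) • (1 + Matrix.replicateCol Unit (fun a => -E N (-(v a)) / N) *
      Matrix.replicateRow Unit (fun b => E N (v b))) := by
    ext a b
    simp only [Kmat, Matrix.of_apply, Matrix.smul_apply, Matrix.add_apply, Matrix.one_apply,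
      Matrix.mul_apply, Matrix.replicateCol_apply, Matrix.replicateRow_apply, Finset.univ_unique,
      Finset.sum_singleton, smul_eq_mul]
    have : E N (-(v a - v b)) = E N (-(v a)) * E N (v b) := by
      rw [← E_add]; congr 1; ring
    rw [this]
    split_ifs
    · field_simp
      ring
    · field_simp
      ring
  rw [hK, Matrix.det_smul, Matrix.det_one_add_replicateCol_mul_replicateRow, Fintype.card_fin]
  have hdot : (fun b => E N (v b)) ⬝ᵥ (fun a => -E N (-(v a)) / N) = -(r : ℂ) / N := by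
    simp only [dotProduct]
    have h1 : ∀ a, E N (v a) * (-E N (-(v a)) / N) = -1 / N := by
      intro a
      rw [E_neg]
      have := E_ne_zero N (v a)
      field_simp
    simp_rw [h1]
    simp
    ring
  rw [hdot]
  field_simp
  ring

lemma prod_phi (M : ℕ) (hv : ∀ a b, (((M + 1 : ℕ) : ℤ) ∣ v a - v b) ↔ a = b)
    (σ τ : Equiv.Perm (Fin r)) :
    ∏ i, ∑ a : Fin M, E (M + 1) ((((a : Fin M) : ℕ) : ℤ) * (v (σ i) - v (τ i))) =
      ∏ i, Kmat (M + 1) v (σ i) (τ i) := by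
  refine Finset.prod_congr rfl (fun i _ => ?_)
  rw [sum_E_trunc]
  unfold Kmat
  rw [Matrix.of_apply]
  congr 1
  by_cases h : σ i = τ i
  · rw [if_pos ((hv _ _).mpr h), if_pos h]
  · rw [if_neg (fun hd => h ((hv _ _).mp hd)), if_neg h]

theorem sum_SA_G (M : ℕ) (hv : ∀ a b, (((M + 1 : ℕ) : ℤ) ∣ v a - v b) ↔ a = b) :
    ∑ α ∈ (Finset.univ : Finset (Fin r → Fin M)).filter StrictAnti,
      G (M + 1) v (fun i => ((α i : Fin M) : ℕ)) = (Kmat (M + 1) v).det := by
  have h5 := sum_eq_factorial_mul_sum_strictAnti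
    (fun α : Fin r → Fin M => G (M + 1) v (fun i => ((α i : Fin M) : ℕ)))
    (fun α π => G_comp (M + 1) v (fun i => ((α i : Fin M) : ℕ)) π)
    (fun α hα => G_eq_zero (M + 1) v _ (fun hinj => hα (fun i j hij =>
      hinj (congrArg (fun x : Fin M => (x : ℕ)) hij))))
  rw [sum_G, Finset.sum_congr rfl (fun σ _ => Finset.sum_congr rfl (fun τ _ => by
    rw [prod_phi (M := M) (v := v) hv σ τ])), double_sum_eq_det] at h5
  have hfac : (r.factorial : ℂ) ≠ 0 := by exact_mod_cast Nat.factorial_ne_zero r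
  exact (mul_left_cancel₀ hfac h5).symm

end kmat

end H21.Verlinde
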