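import Mathlib
import Groth.Agent.H21.Verlinde.V15
import Groth.Agent.H21.Verlinde.V14

set_option autoImplicit false

open Complex

namespace H21.Verlinde

lemma strictAnti_gap {r : ℕ} (α : Fin r → ℕ) (hα : StrictAnti α) :
    ∀ (d : ℕ) (i j : Fin r), (j : ℕ) = (i : ℕ) + d → α j + d ≤ α i := by
  intro d
  induction d with
  | zero =>
    intro i j hij
    have : j = i := Fin.ext (by omega)
    rw [this]; omega
  | succ d ih =>
    intro i j hij
    have hj := j.is_lt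
    have h1 := ih i ⟨(i : ℕ) + d, by omega⟩ rfl
    have h2 : α j < α ⟨(i : ℕ) + d, by omega⟩ := hα (by rw [Fin.lt_def]; simp only; omega)
    omega

theorem sum_antitone_eq_sum_strictAnti {r : ℕ} (hr : 1 ≤ r) (K : ℕ) (F : (Fin r → ℕ) → ℂ) :
    ∑ μ ∈ (Finset.univ : Finset (Fin r → Fin K)).filter Antitone,
        F (fun i => ((μ i : Fin K) : ℕ) + (r - 1 - (i : ℕ))) =
      ∑ α ∈ (Finset.univ : Finset (Fin r → Fin (K + (r - 1)))).filter StrictAnti,
        F (fun i => ((α i : Fin (K + (r - 1))) : ℕ)) := by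
  classical
  refine Finset.sum_nbij
    (fun μ i => (⟨((μ i : Fin K) : ℕ) + (r - 1 - (i : ℕ)), by
      have := (μ i).is_lt; omega⟩ : Fin (K + (r - 1)))) ?_ ?_ ?_ (fun _ _ => rfl)
  · intro μ hμ
    simp only [Finset.mem_filter, Finset.mem_univ, true_and] at hμ ⊢
    intro i j hij
    have h1 : ((μ j : Fin K) : ℕ) ≤ ((μ i : Fin K) : ℕ) := hμ hij.le
    have h2 : (i : ℕ) < (j : ℕ) := hij
    have h3 := j.is_lt
    rw [Fin.lt_def]
    simp only
    omega
  · intro μ _ μ' _ h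
    funext i
    have := congrArg (fun α : Fin r → Fin (K + (r - 1)) => ((α i : Fin (K + (r - 1))) : ℕ)) h
    simp only at this
    apply Fin.ext
    omega
  · intro α hα
    simp only [Finset.coe_filter, Finset.mem_univ, true_and, Set.mem_ofPred_eq] at hα
    obtain ⟨β, hβ⟩ : ∃ β : Fin r → ℕ, β = fun i => ((α i : Fin (K + (r - 1))) : ℕ) := ⟨_, rfl⟩
    have hβa : StrictAnti β := by
      intro i j hij
      rw [hβ]
      exact hα hij
    have hgap := strictAnti_gap β hβa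
    have hβ0 : β ⟨0, by omega⟩ < K + (r - 1) := by rw [hβ]; exact (α _).is_lt
    have hlow : ∀ i : Fin r, r - 1 - (i : ℕ) ≤ β i := by
      intro i
      have := hgap (r - 1 - (i : ℕ)) i ⟨r - 1, by omega⟩ (by
        have := i.is_lt
        simp only
        omega)
      omega
    have hup : ∀ i : Fin r, β i + (i : ℕ) ≤ β ⟨0, by omega⟩ := by
      intro i
      exact hgap (i : ℕ) ⟨0, by omega⟩ i (by simp)
    refine ⟨fun i => ⟨β i - (r - 1 - (i : ℕ)), ?_⟩, ?_, ?_⟩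
    · have := hup i
      have := hlow i
      have := i.is_lt
      omega
    · simp only [Finset.coe_filter, Finset.mem_univ, true_and, Set.mem_ofPred_eq]
      intro i j hij
      rw [Fin.le_def]
      simp only
      have h1 := hgap ((j : ℕ) - (i : ℕ)) i j (by
        have : (i : ℕ) ≤ (j : ℕ) := hij
        omega)
      have h2 := hlow j
      have h3 := hlow i
      have : (i : ℕ) ≤ (j : ℕ) := hij
      have := j.is_lt
      omega
    · funext i
      apply Fin.ext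
      simp only
      have := hlow i
      have : β i = ((α i : Fin (K + (r - 1))) : ℕ) := by rw [hβ]
      omega

/-- the determinant at the dual exponent vector -/
lemma det_Bmat_dual {r : ℕ} (N : ℕ) (hN : N ≠ 0) (v : Fin r → ℤ) (α : Fin r → ℕ)
    (hα : ∀ i, α i ≤ N - 1) :
    (Bmat N v (fun i => N - 1 - α (Fin.rev i))).det =
      ((Equiv.Perm.sign (Fin.revPerm : Equiv.Perm (Fin r)) : ℤ) : ℂ) * E N (-∑ j, v j) *
        (Bmat N (fun j => -v j) α).det := by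
  have h1 : Bmat N v (fun i => N - 1 - α (Fin.rev i)) =
      Matrix.of fun i j => E N (-(v j)) *
        ((Bmat N (fun j => -v j) α).submatrix (Fin.revPerm : Equiv.Perm (Fin r)) id) i j := by
    ext i j
    simp only [Bmat, Matrix.of_apply, Matrix.submatrix_apply, Fin.revPerm_apply, id_eq]
    rw [E_pow, E_pow, ← E_add]
    have h2 : ((N - 1 - α (Fin.rev i) : ℕ) : ℤ) = (N : ℤ) - 1 - (α (Fin.rev i) : ℤ) := by
      have := hα (Fin.rev i)
      omega
    rw [h2]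
    have h3 : ((N : ℤ) - 1 - (α (Fin.rev i) : ℤ)) * v j =
        (N : ℤ) * v j + (-(v j) + (α (Fin.rev i) : ℤ) * -(v j)) := by ring
    rw [h3, E_add, E_mul_self N hN, one_mul]
  rw [h1, Matrix.det_mul_row, Matrix.det_permute, ← E_sum, Finset.sum_neg_distrib]
  ring

lemma eps_mul_sign (n : ℕ) :
    (∏ _p ∈ (Finset.univ : Finset (Fin (n + 1) × Fin (n + 1))).filter (fun p => p.1 < p.2),
      (-1 : ℂ)) * ((Equiv.Perm.sign (Fin.revPerm : Equiv.Perm (Fin (n + 1))) : ℤ) : ℂ) = 1 := by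
  have hsum := sum_P n 1
  obtain ⟨X, hX⟩ : ∃ X : ℝ, X = ∑ v ∈ (Finset.univ : Finset (Fin (n + 1) → Fin (n + 1 + 1))).filter
        (fun v => StrictAnti v ∧ ((v (Fin.last n) : Fin (n + 1 + 1)) : ℕ) = 0),
      ∏ p ∈ (Finset.univ : Finset (Fin (n + 1) × Fin (n + 1))).filter (fun p => p.1 < p.2),
        ((2 : ℝ) * Real.sin (Real.pi * (((v p.1 : ℕ) : ℝ) - ((v p.2 : ℕ) : ℝ)) /
          ((n + 1 + 1 : ℕ) : ℝ))) ^ 2 := ⟨_, rfl⟩
  rw [← hX] at hsum
  have hXnn : 0 ≤ X := by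
    rw [hX]
    exact Finset.sum_nonneg (fun v _ => Finset.prod_nonneg (fun p _ => sq_nonneg _))
  have hpos : (0 : ℝ) < ((n : ℝ) + 1) * ((n + 1 + 1 : ℕ) : ℝ) ^ n := by positivity
  have hε : (∏ _p ∈ (Finset.univ : Finset (Fin (n + 1) × Fin (n + 1))).filter
      (fun p => p.1 < p.2), (-1 : ℂ)) = 1 ∨
      (∏ _p ∈ (Finset.univ : Finset (Fin (n + 1) × Fin (n + 1))).filter
      (fun p => p.1 < p.2), (-1 : ℂ)) = -1 := by
    rw [Finset.prod_const]
    exact neg_one_pow_eq_or ℂ _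
  have hs : ((Equiv.Perm.sign (Fin.revPerm : Equiv.Perm (Fin (n + 1))) : ℤ) : ℂ) = 1 ∨
      ((Equiv.Perm.sign (Fin.revPerm : Equiv.Perm (Fin (n + 1))) : ℤ) : ℂ) = -1 := by
    rcases Int.units_eq_one_or (Equiv.Perm.sign (Fin.revPerm : Equiv.Perm (Fin (n + 1)))) with h | h
    · left; rw [h]; simp
    · right; rw [h]; simp
  have hneg : (X : ℂ) ≠ ((-(((n : ℝ) + 1) * ((n + 1 + 1 : ℕ) : ℝ) ^ n) : ℝ) : ℂ) := by
    intro h
    have : X = -(((n : ℝ) + 1) * ((n + 1 + 1 : ℕ) : ℝ) ^ n) := by exact_mod_cast h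
    linarith
  rcases hε with h1 | h1 <;> rcases hs with h2 | h2 <;> rw [h1, h2] at hsum ⊢
  · ring
  · exfalso; apply hneg; rw [hsum]; push_cast; ring
  · exfalso; apply hneg; rw [hsum]; push_cast; ring
  · ring

lemma final_algebra (s ε A D detK Nc kc : ℂ) (n k : ℕ) (hεs : ε * s = 1)
    (hApow : A ^ k * A ^ n * A = 1) (hdet : detK = Nc ^ n * kc) :
    s * A⁻¹ * detK / (D * D) = A ^ k * (kc * Nc ^ n) / (ε * D ^ 2 * (A ^ n)⁻¹) := by
  have hs : s = ε⁻¹ := eq_inv_of_mul_eq_one_right hεs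
  have hε : ε ≠ 0 := left_ne_zero_of_mul_eq_one hεs
  have hA : A ≠ 0 := right_ne_zero_of_mul_eq_one hApow
  have hAinv : A⁻¹ = A ^ k * A ^ n := (eq_inv_of_mul_eq_one_left hApow).symm
  rw [hs, hAinv, hdet]
  by_cases hD : D = 0
  · simp [hD]
  · field_simp

theorem schur_dual_sum (n k : ℕ) (v : Fin (n + 1) → ℕ) (hv : StrictAnti v)
    (hvlt : ∀ i, v i < n + 1 + k)
    (z : Fin (n + 1) → ℂ)
    (hz : ∀ j, z j = Complex.exp (2 * Real.pi * Complex.I * (v j : ℂ) / (((n + 1 : ℕ) : ℂ) + k)))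
    (S : (Fin (n + 1) → ℕ) → ℂ)
    (hS : ∀ μ : Fin (n + 1) → ℕ, S μ =
      (Matrix.of fun i j : Fin (n + 1) => z j ^ (μ i + (n + 1 - 1 - (i : ℕ)))).det /
        (Matrix.of fun i j : Fin (n + 1) => z j ^ (n + 1 - 1 - (i : ℕ))).det) :
    (∑ μ ∈ (Finset.univ : Finset (Fin (n + 1) → Fin k)).filter
        (fun μ : Fin (n + 1) → Fin k => Antitone μ),
        S (fun i => (μ i : ℕ)) * S (fun i => k - (μ (Fin.rev i) : ℕ))) =
      Complex.exp (2 * Real.pi * Complex.I * (k : ℂ) * ((∑ j, v j : ℕ) : ℂ) /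
          (((n + 1 : ℕ) : ℂ) + k)) *
        ((k : ℂ) * (((n + 1 : ℕ) : ℂ) + k) ^ (n + 1 - 1)) /
        (∏ p ∈ (Finset.univ : Finset (Fin (n + 1) × Fin (n + 1))).filter (fun p => p.1 < p.2),
          (((2 : ℝ) * Real.sin (Real.pi * ((v p.1 : ℝ) - (v p.2 : ℝ)) /
            (((n + 1 : ℕ) : ℝ) + k))) ^ 2 : ℝ) : ℂ) := by
  classical
  obtain ⟨N, hN⟩ : ∃ N : ℕ, N = k + (n + 1 - 1) + 1 := ⟨_, rfl⟩
  have hNnk : N = n + 1 + k := by omega
  have hN0 : N ≠ 0 := by omega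
  have hNC : (((n + 1 : ℕ) : ℂ) + k) = (N : ℂ) := by rw [hNnk]; push_cast; ring
  have hNR : (((n + 1 : ℕ) : ℝ) + k) = (N : ℝ) := by rw [hNnk]; push_cast; ring
  obtain ⟨w, hw⟩ : ∃ w : Fin (n + 1) → ℤ, w = fun j => (v j : ℤ) := ⟨_, rfl⟩
  have hzE : ∀ j, z j = E N (w j) := by
    intro j
    rw [hz, hNC, hw]
    unfold E
    push_cast
    rfl
  have hA : ∀ α : Fin (n + 1) → ℕ, (Matrix.of fun i j : Fin (n + 1) => z j ^ (α i)) = Bmat N w α := by
    intro α
    ext i j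
    simp only [Matrix.of_apply, Bmat, hzE]
  obtain ⟨D, hD⟩ : ∃ D : ℂ, D = (Bmat N w (fun i => n + 1 - 1 - (i : ℕ))).det := ⟨_, rfl⟩
  have hS' : ∀ μ : Fin (n + 1) → ℕ,
      S μ = (Bmat N w (fun i => μ i + (n + 1 - 1 - (i : ℕ)))).det / D := by
    intro μ
    rw [hS, hA (fun i => μ i + (n + 1 - 1 - (i : ℕ))), hA (fun i => n + 1 - 1 - (i : ℕ)), hD]
  -- injectivity mod N
  have hwinj : ∀ a b, (((k + (n + 1 - 1) + 1 : ℕ) : ℤ) ∣ w a - w b) ↔ a = b := by
    intro a b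
    rw [← hN]
    constructor
    · intro hd
      have ha := hvlt a
      have hb := hvlt b
      apply hv.injective
      obtain ⟨t, ht⟩ := hd
      rw [hw] at ht
      simp only at ht
      have hNz : (N : ℤ) = (n : ℤ) + 1 + k := by rw [hNnk]; push_cast; ring
      have ht0 : t = 0 := by
        by_contra ht0
        rcases lt_or_gt_of_ne ht0 with hlt | hgt
        · have h5 : t ≤ -1 := by omega
          have h6 : (N : ℤ) * t ≤ -(N : ℤ) := by nlinarith
          omega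
        · have h5 : 1 ≤ t := by omega
          have h6 : (N : ℤ) ≤ (N : ℤ) * t := by nlinarith
          omega
      rw [ht0, mul_zero] at ht
      omega
    · intro hab
      rw [hab, sub_self]
      exact dvd_zero _
  -- the main sum
  have hmain : ∑ μ ∈ (Finset.univ : Finset (Fin (n + 1) → Fin k)).filter
        (fun μ : Fin (n + 1) → Fin k => Antitone μ),
      (Bmat N w (fun i => ((μ i : Fin k) : ℕ) + (n + 1 - 1 - (i : ℕ)))).det *
        (Bmat N w (fun i => (k - ((μ (Fin.rev i) : Fin k) : ℕ)) + (n + 1 - 1 - (i : ℕ)))).det =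
      ((Equiv.Perm.sign (Fin.revPerm : Equiv.Perm (Fin (n + 1))) : ℤ) : ℂ) * E N (-∑ j, w j) *
        (Kmat N w).det := by
    have h1 : ∀ μ : Fin (n + 1) → Fin k,
        (Bmat N w (fun i => ((μ i : Fin k) : ℕ) + (n + 1 - 1 - (i : ℕ)))).det *
        (Bmat N w (fun i => (k - ((μ (Fin.rev i) : Fin k) : ℕ)) + (n + 1 - 1 - (i : ℕ)))).det =
        ((Equiv.Perm.sign (Fin.revPerm : Equiv.Perm (Fin (n + 1))) : ℤ) : ℂ) * E N (-∑ j, w j) *
          G N w (fun i => ((μ i : Fin k) : ℕ) + (n + 1 - 1 - (i : ℕ))) := by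
      intro μ
      have h2 : (fun i : Fin (n + 1) => (k - ((μ (Fin.rev i) : Fin k) : ℕ)) + (n + 1 - 1 - (i : ℕ))) =
          fun i => N - 1 - (fun i : Fin (n + 1) => ((μ i : Fin k) : ℕ) + (n + 1 - 1 - (i : ℕ)))
            (Fin.rev i) := by
        funext i
        have h3 := (μ (Fin.rev i)).is_lt
        have h4 := i.is_lt
        simp only [Fin.val_rev]
        omega
      rw [h2, det_Bmat_dual N hN0 w (fun i => ((μ i : Fin k) : ℕ) + (n + 1 - 1 - (i : ℕ)))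
        (fun i => by
          have h3 := (μ i).is_lt
          have h4 := i.is_lt
          show ((μ i : Fin k) : ℕ) + (n + 1 - 1 - (i : ℕ)) ≤ N - 1
          omega)]
      unfold G
      ring
    rw [Finset.sum_congr rfl (fun μ _ => h1 μ), ← Finset.mul_sum,
      sum_antitone_eq_sum_strictAnti (by omega) k (fun α => G N w α), hN,
      sum_SA_G w (k + (n + 1 - 1)) hwinj]
  -- assemble
  have hLHS : (∑ μ ∈ (Finset.univ : Finset (Fin (n + 1) → Fin k)).filter
        (fun μ : Fin (n + 1) → Fin k => Antitone μ),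
        S (fun i => (μ i : ℕ)) * S (fun i => k - (μ (Fin.rev i) : ℕ))) =
      ((Equiv.Perm.sign (Fin.revPerm : Equiv.Perm (Fin (n + 1))) : ℤ) : ℂ) * (E N (∑ j, w j))⁻¹ *
        (Kmat N w).det / (D * D) := by
    rw [← E_neg, ← hmain, Finset.sum_div]
    refine Finset.sum_congr rfl (fun μ _ => ?_)
    rw [hS', hS', div_mul_div_comm]
  rw [hLHS]
  -- the sine product
  have hP : (∏ p ∈ (Finset.univ : Finset (Fin (n + 1) × Fin (n + 1))).filter (fun p => p.1 < p.2),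
      (((2 : ℝ) * Real.sin (Real.pi * ((v p.1 : ℝ) - (v p.2 : ℝ)) /
        (((n + 1 : ℕ) : ℝ) + k))) ^ 2 : ℝ) : ℂ) =
      (∏ _p ∈ (Finset.univ : Finset (Fin (n + 1) × Fin (n + 1))).filter (fun p => p.1 < p.2),
        (-1 : ℂ)) * D ^ 2 * ((E N (∑ j, w j)) ^ n)⁻¹ := by
    rw [hNR, ← Complex.ofReal_prod, P_eq N (Nat.succ_ne_zero n) v]
    have hAm : Amat N (fun i : Fin (n + 1) => n + 1 - 1 - (i : ℕ)) (fun j => (v j : ℤ)) =
        Bmat N w (fun i => n + 1 - 1 - (i : ℕ)) := by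
      ext i j
      simp only [Amat, Bmat, Matrix.of_apply, hw]
      rw [E_mul_left (n + 1) N (Nat.succ_ne_zero n)]
    rw [hAm, ← hD]
    congr 1
    rw [E_pow, ← E_neg, ← hw]
    have : -(((n + 1 : ℕ) : ℤ) * (((n + 1 : ℕ) : ℤ) - 1) * ∑ j, w j) =
        ((n + 1 : ℕ) : ℤ) * (-((n : ℤ) * ∑ j, w j)) := by push_cast; ring
    rw [this, E_mul_left (n + 1) N (Nat.succ_ne_zero n)]
  rw [hP]
  have hexp : Complex.exp (2 * Real.pi * Complex.I * (k : ℂ) * ((∑ j, v j : ℕ) : ℂ) /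
      (((n + 1 : ℕ) : ℂ) + k)) = (E N (∑ j, w j)) ^ k := by
    rw [E_pow, hNC, hw]
    unfold E
    congr 1
    push_cast
    ring
  rw [hexp, hNC, Nat.add_sub_cancel]
  apply final_algebra _ _ _ _ _ _ _ n k (eps_mul_sign n)
  · rw [← pow_add, ← pow_succ, E_pow]
    have : ((k + n + 1 : ℕ) : ℤ) * ∑ j, w j = (N : ℤ) * ∑ j, w j := by
      rw [hNnk]; push_cast; ring
    rw [this, E_mul_self N hN0]
  · have hdet := det_Kmat N w hN0
    have hNc : (N : ℂ) ≠ 0 := Nat.cast_ne_zero.mpr hN0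
    apply mul_right_cancel₀ hNc
    rw [hdet]
    have : (N : ℂ) - ((n + 1 : ℕ) : ℂ) = (k : ℂ) := by rw [hNnk]; push_cast; ring
    rw [this]
    ring

end H21.Verlinde
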