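import Mathlib
import Groth.Agent.H21.Verlinde.V16

set_option autoImplicit false

open Complex

namespace H21.Verlinde

theorem verlinde_rec (n k : ℕ)
    (g : ℕ) (d : ℤ) (ι : Type) [Fintype ι] (lam : ι → Fin (n + 1) → ℕ)
    (z : (Fin (n + 1) → ℕ) → Fin (n + 1) → ℂ)
    (hz : ∀ v j, z v j = Complex.exp (2 * Real.pi * Complex.I * (v j : ℂ) / (((n + 1 : ℕ) : ℂ) + k)))
    (S : (Fin (n + 1) → ℕ) → (Fin (n + 1) → ℕ) → ℂ)
    (hS : ∀ μ v, S μ v = (Matrix.of fun i j : Fin (n + 1) => z v j ^ (μ i + (n + 1 - 1 - (i : ℕ)))).det /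
        (Matrix.of fun i j : Fin (n + 1) => z v j ^ (n + 1 - 1 - (i : ℕ))).det)
    (P : (Fin (n + 1) → ℕ) → ℝ)
    (hP : ∀ v, P v = ∏ p ∈ (Finset.univ : Finset (Fin (n + 1) × Fin (n + 1))).filter
        (fun p => p.1 < p.2),
        ((2 : ℝ) * Real.sin (Real.pi * ((v p.1 : ℝ) - (v p.2 : ℝ)) / (((n + 1 : ℕ) : ℝ) + k))) ^ 2)
    (V : ℕ → ℤ → ℕ → ((Fin (n + 1) → ℕ) → ℂ) → ℂ)
    (hV : ∀ (g' : ℕ) (d' : ℤ) (w : ℕ) (Sω : (Fin (n + 1) → ℕ) → ℂ), V g' d' w Sω =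
        (-1 : ℂ) ^ (d' * (((n + 1 : ℕ) : ℤ) - 1)) * ((k : ℂ) / ((n + 1 : ℕ) : ℂ)) ^ g' *
          (((((n + 1 : ℕ) : ℂ) * (((n + 1 : ℕ) : ℂ) + k) ^ (n + 1 - 1)) ^ g') /
            (((n + 1 : ℕ) : ℂ) * (((n + 1 : ℕ) : ℂ) + k) ^ (n + 1 - 1))) *
          ∑ v ∈ (Finset.univ : Finset (Fin (n + 1) → Fin (n + 1 + k))).filter
            (fun v : Fin (n + 1) → Fin (n + 1 + k) =>
              StrictAnti v ∧ ∀ i : Fin (n + 1), (i : ℕ) = n + 1 - 1 → (v i : ℕ) = 0),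
            Complex.exp (2 * Real.pi * Complex.I * ((d' : ℂ) / ((n + 1 : ℕ) : ℂ) -
                (w : ℂ) / ((((n + 1 : ℕ) : ℂ)) * (((n + 1 : ℕ) : ℂ) + k))) *
                ((∑ j, (v j : ℕ) : ℕ) : ℂ)) *
              Sω (fun j => (v j : ℕ)) *
              (((P (fun j => (v j : ℕ)) : ℂ)) / ((P (fun j => (v j : ℕ)) : ℂ)) ^ g')) :
    V (g + 1) d (∑ x, ∑ i, lam x i) (fun v => ∏ x, S (lam x) v) =
      ∑ μ ∈ (Finset.univ : Finset (Fin (n + 1) → Fin k)).filter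
          (fun μ : Fin (n + 1) → Fin k => Antitone μ),
        V g d ((∑ x, ∑ i, lam x i) + (∑ i, (μ i : ℕ)) + (∑ i, (k - (μ (Fin.rev i) : ℕ))))
          (fun v => (∏ x, S (lam x) v) * S (fun i => (μ i : ℕ)) v *
            S (fun i => k - (μ (Fin.rev i) : ℕ)) v) := by
  classical
  obtain ⟨W, hW⟩ : ∃ W : ℕ, W = ∑ x, ∑ i, lam x i := ⟨_, rfl⟩
  rw [← hW]
  obtain ⟨R, hR⟩ : ∃ R : ℂ, R = ((n + 1 : ℕ) : ℂ) := ⟨_, rfl⟩
  have hR0 : R ≠ 0 := by rw [hR]; exact Nat.cast_ne_zero.mpr (Nat.succ_ne_zero n)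
  have hRk0 : R + (k : ℂ) ≠ 0 := by
    rw [hR]
    have : (((n + 1 : ℕ) : ℂ) + (k : ℂ)) = ((n + 1 + k : ℕ) : ℂ) := by push_cast; ring
    rw [this]
    exact Nat.cast_ne_zero.mpr (by omega)
  simp only [← hR] at hV hz ⊢
  -- weights
  have hWμ : ∀ μ : Fin (n + 1) → Fin k,
      ((W + (∑ i, (μ i : ℕ)) + (∑ i, (k - (μ (Fin.rev i) : ℕ))) : ℕ) : ℂ) = (W : ℂ) + R * k := by
    intro μ
    have h1 : (∑ i, (μ i : ℕ)) + (∑ i, (k - (μ (Fin.rev i) : ℕ))) = (n + 1) * k := by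
      have h2 : (∑ i : Fin (n + 1), (k - (μ (Fin.rev i) : ℕ))) + ∑ i : Fin (n + 1), (μ (Fin.rev i) : ℕ) =
          (n + 1) * k := by
        rw [← Finset.sum_add_distrib]
        rw [Finset.sum_congr rfl (fun i _ => Nat.sub_add_cancel (le_of_lt (μ (Fin.rev i)).is_lt))]
        rw [Finset.sum_const, Finset.card_univ, Fintype.card_fin, smul_eq_mul]
      have h3 : ∑ i : Fin (n + 1), (μ (Fin.rev i) : ℕ) = ∑ i : Fin (n + 1), (μ i : ℕ) :=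
        Equiv.sum_comp Fin.revPerm (fun i => (μ i : ℕ))
      omega
    rw [add_assoc, h1, hR]
    push_cast
    ring
  have hexp : ∀ (μ : Fin (n + 1) → Fin k) (σ : ℂ),
      Complex.exp (2 * Real.pi * Complex.I * ((d : ℂ) / R -
        ((W + (∑ i, (μ i : ℕ)) + (∑ i, (k - (μ (Fin.rev i) : ℕ))) : ℕ) : ℂ) / (R * (R + k))) * σ) =
      Complex.exp (2 * Real.pi * Complex.I * ((d : ℂ) / R - (W : ℂ) / (R * (R + k))) * σ) *
        Complex.exp (-(2 * Real.pi * Complex.I * (k : ℂ) * σ / (R + k))) := by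
    intro μ σ
    rw [hWμ, ← Complex.exp_add]
    congr 1
    field_simp
    ring
  -- the key identity from the dual Schur sum
  have hkey : ∀ v ∈ (Finset.univ : Finset (Fin (n + 1) → Fin (n + 1 + k))).filter
      (fun v : Fin (n + 1) → Fin (n + 1 + k) =>
        StrictAnti v ∧ ∀ i : Fin (n + 1), (i : ℕ) = n + 1 - 1 → (v i : ℕ) = 0),
      (∑ μ ∈ (Finset.univ : Finset (Fin (n + 1) → Fin k)).filter
          (fun μ : Fin (n + 1) → Fin k => Antitone μ),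
        S (fun i => (μ i : ℕ)) (fun j => (v j : ℕ)) *
          S (fun i => k - (μ (Fin.rev i) : ℕ)) (fun j => (v j : ℕ))) =
      Complex.exp (2 * Real.pi * Complex.I * (k : ℂ) * ((∑ j, (v j : ℕ) : ℕ) : ℂ) / (R + k)) *
        ((k : ℂ) * (R + k) ^ (n + 1 - 1)) / (P (fun j => (v j : ℕ)) : ℂ) := by
    intro v hv
    simp only [Finset.mem_filter, Finset.mem_univ, true_and] at hv
    have h1 := schur_dual_sum n k (fun j => ((v j : Fin (n + 1 + k)) : ℕ))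
      (fun i j hij => by
        have := hv.1 hij
        rw [Fin.lt_def] at this
        exact this)
      (fun i => (v i).is_lt) (z (fun j => ((v j : Fin (n + 1 + k)) : ℕ)))
      (fun j => by rw [hz, hR])
      (fun μ => S μ (fun j => ((v j : Fin (n + 1 + k)) : ℕ))) (fun μ => hS μ _)
    rw [h1, hP, hR]
    push_cast
    rfl
  -- expand
  have hRHS : ∀ μ ∈ (Finset.univ : Finset (Fin (n + 1) → Fin k)).filter
      (fun μ : Fin (n + 1) → Fin k => Antitone μ),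
      V g d (W + (∑ i, (μ i : ℕ)) + (∑ i, (k - (μ (Fin.rev i) : ℕ))))
          (fun v => (∏ x, S (lam x) v) * S (fun i => (μ i : ℕ)) v *
            S (fun i => k - (μ (Fin.rev i) : ℕ)) v) =
      ((-1 : ℂ) ^ (d * (((n + 1 : ℕ) : ℤ) - 1)) * ((k : ℂ) / R) ^ g *
          (((R * (R + k) ^ (n + 1 - 1)) ^ g) / (R * (R + k) ^ (n + 1 - 1)))) *
        ∑ v ∈ (Finset.univ : Finset (Fin (n + 1) → Fin (n + 1 + k))).filter
            (fun v : Fin (n + 1) → Fin (n + 1 + k) =>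
              StrictAnti v ∧ ∀ i : Fin (n + 1), (i : ℕ) = n + 1 - 1 → (v i : ℕ) = 0),
          (Complex.exp (2 * Real.pi * Complex.I * ((d : ℂ) / R - (W : ℂ) / (R * (R + k))) *
              ((∑ j, (v j : ℕ) : ℕ) : ℂ)) *
            Complex.exp (-(2 * Real.pi * Complex.I * (k : ℂ) * ((∑ j, (v j : ℕ) : ℕ) : ℂ) / (R + k))) *
            (∏ x, S (lam x) (fun j => (v j : ℕ))) *
            (((P (fun j => (v j : ℕ)) : ℂ)) / ((P (fun j => (v j : ℕ)) : ℂ)) ^ g)) *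
          (S (fun i => (μ i : ℕ)) (fun j => (v j : ℕ)) *
            S (fun i => k - (μ (Fin.rev i) : ℕ)) (fun j => (v j : ℕ))) := by
    intro μ _
    rw [hV]
    congr 1
    refine Finset.sum_congr rfl (fun v _ => ?_)
    rw [hexp]
    ring
  rw [Finset.sum_congr rfl hRHS, ← Finset.mul_sum, Finset.sum_comm]
  have hinner : ∀ v ∈ (Finset.univ : Finset (Fin (n + 1) → Fin (n + 1 + k))).filter
      (fun v : Fin (n + 1) → Fin (n + 1 + k) =>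
        StrictAnti v ∧ ∀ i : Fin (n + 1), (i : ℕ) = n + 1 - 1 → (v i : ℕ) = 0),
      (∑ μ ∈ (Finset.univ : Finset (Fin (n + 1) → Fin k)).filter
          (fun μ : Fin (n + 1) → Fin k => Antitone μ),
        (Complex.exp (2 * Real.pi * Complex.I * ((d : ℂ) / R - (W : ℂ) / (R * (R + k))) *
              ((∑ j, (v j : ℕ) : ℕ) : ℂ)) *
            Complex.exp (-(2 * Real.pi * Complex.I * (k : ℂ) * ((∑ j, (v j : ℕ) : ℕ) : ℂ) / (R + k))) *
            (∏ x, S (lam x) (fun j => (v j : ℕ))) *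
            (((P (fun j => (v j : ℕ)) : ℂ)) / ((P (fun j => (v j : ℕ)) : ℂ)) ^ g)) *
          (S (fun i => (μ i : ℕ)) (fun j => (v j : ℕ)) *
            S (fun i => k - (μ (Fin.rev i) : ℕ)) (fun j => (v j : ℕ)))) =
      ((k : ℂ) * (R + k) ^ (n + 1 - 1)) *
        (Complex.exp (2 * Real.pi * Complex.I * ((d : ℂ) / R - (W : ℂ) / (R * (R + k))) *
              ((∑ j, (v j : ℕ) : ℕ) : ℂ)) *
          (∏ x, S (lam x) (fun j => (v j : ℕ))) *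
          (((P (fun j => (v j : ℕ)) : ℂ)) / ((P (fun j => (v j : ℕ)) : ℂ)) ^ (g + 1))) := by
    intro v hv
    rw [← Finset.mul_sum, hkey v hv]
    have hee : Complex.exp (-(2 * Real.pi * Complex.I * (k : ℂ) * ((∑ j, (v j : ℕ) : ℕ) : ℂ) / (R + k))) *
        Complex.exp (2 * Real.pi * Complex.I * (k : ℂ) * ((∑ j, (v j : ℕ) : ℕ) : ℂ) / (R + k)) = 1 := by
      rw [← Complex.exp_add, neg_add_cancel, Complex.exp_zero]
    obtain ⟨e1, he1⟩ : ∃ e1 : ℂ, e1 = Complex.exp (-(2 * Real.pi * Complex.I * (k : ℂ) *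
        ((∑ j, (v j : ℕ) : ℕ) : ℂ) / (R + k))) := ⟨_, rfl⟩
    obtain ⟨e2, he2⟩ : ∃ e2 : ℂ, e2 = Complex.exp (2 * Real.pi * Complex.I * (k : ℂ) *
        ((∑ j, (v j : ℕ) : ℕ) : ℂ) / (R + k)) := ⟨_, rfl⟩
    obtain ⟨a, ha⟩ : ∃ a : ℂ, a = Complex.exp (2 * Real.pi * Complex.I *
        ((d : ℂ) / R - (W : ℂ) / (R * (R + k))) * ((∑ j, (v j : ℕ) : ℕ) : ℂ)) := ⟨_, rfl⟩
    obtain ⟨Pc, hPc⟩ : ∃ Pc : ℂ, Pc = (P (fun j => ((v j : Fin (n + 1 + k)) : ℕ)) : ℂ) := ⟨_, rfl⟩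
    rw [← he1, ← he2] at hee
    rw [← he1, ← he2, ← ha, ← hPc]
    have hpp : Pc / Pc ^ (g + 1) = (Pc / Pc ^ g) * Pc⁻¹ := by
      rw [pow_succ, div_mul_eq_div_div, div_eq_mul_inv (Pc / Pc ^ g)]
    rw [hpp, div_eq_mul_inv (e2 * ((k : ℂ) * (R + k) ^ (n + 1 - 1))) Pc]
    linear_combination (a * (∏ x, S (lam x) (fun j => (v j : ℕ))) * (Pc / Pc ^ g) *
      ((k : ℂ) * (R + k) ^ (n + 1 - 1)) * Pc⁻¹) * hee
  rw [Finset.sum_congr rfl hinner, ← Finset.mul_sum, hV]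
  have hC0 : R * (R + k) ^ (n + 1 - 1) ≠ 0 := mul_ne_zero hR0 (pow_ne_zero _ hRk0)
  have h1 : ((k : ℂ) / R) ^ (g + 1) * ((R * (R + k) ^ (n + 1 - 1)) ^ (g + 1) /
      (R * (R + k) ^ (n + 1 - 1))) =
      ((k : ℂ) / R) ^ g * ((R * (R + k) ^ (n + 1 - 1)) ^ g / (R * (R + k) ^ (n + 1 - 1))) *
        ((k : ℂ) * (R + k) ^ (n + 1 - 1)) := by
    rw [pow_succ, pow_succ]
    field_simp
  obtain ⟨X, hX⟩ : ∃ X : ℂ, X = ∑ v ∈ (Finset.univ : Finset (Fin (n + 1) → Fin (n + 1 + k))).filter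
      (fun v : Fin (n + 1) → Fin (n + 1 + k) =>
        StrictAnti v ∧ ∀ i : Fin (n + 1), (i : ℕ) = n + 1 - 1 → (v i : ℕ) = 0),
      (Complex.exp (2 * Real.pi * Complex.I * ((d : ℂ) / R - (W : ℂ) / (R * (R + k))) *
              ((∑ j, (v j : ℕ) : ℕ) : ℂ)) *
          (∏ x, S (lam x) (fun j => (v j : ℕ))) *
          (((P (fun j => (v j : ℕ)) : ℂ)) / ((P (fun j => (v j : ℕ)) : ℂ)) ^ (g + 1))) := ⟨_, rfl⟩
  have hX' : (∑ v ∈ (Finset.univ : Finset (Fin (n + 1) → Fin (n + 1 + k))).filter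
      (fun v : Fin (n + 1) → Fin (n + 1 + k) =>
        StrictAnti v ∧ ∀ i : Fin (n + 1), (i : ℕ) = n + 1 - 1 → (v i : ℕ) = 0),
      Complex.exp (2 * Real.pi * Complex.I * ((d : ℂ) / R - (W : ℂ) / (R * (R + k))) *
              ((∑ j, (v j : ℕ) : ℕ) : ℂ)) *
          (fun v => ∏ x, S (lam x) v) (fun j => (v j : ℕ)) *
          (((P (fun j => (v j : ℕ)) : ℂ)) / ((P (fun j => (v j : ℕ)) : ℂ)) ^ (g + 1))) = X := by
    rw [hX]
  rw [hX']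
  linear_combination ((-1 : ℂ) ^ (d * (((n + 1 : ℕ) : ℤ) - 1)) * X) * h1

end H21.Verlinde
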