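import Mathlib
import Groth.Agent.H21.Verlinde.V12

set_option autoImplicit false

open Complex

namespace H21.Verlinde

lemma hC_gen {r : ℕ} (M : ℕ) (A A' : Fin r → ℕ)
    (hM : ∑ i, A i + ∑ i, A' i = M + r * (r - 1)) (hr : 1 ≤ r) (σ τ : Equiv.Perm (Fin r)) :
    ∑ j, Cf M A A' σ τ j = 0 := by
  unfold Cf
  have h1 := Equiv.sum_comp σ (fun i => (A i : ℤ))
  have h2 := Equiv.sum_comp τ (fun i => (A' i : ℤ))
  simp only [Finset.sum_sub_distrib, ← Finset.mul_sum, Finset.sum_add_distrib, Finset.sum_const,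
    Finset.card_univ, Fintype.card_fin, nsmul_eq_mul]
  rw [h1, h2]
  have h3 := congrArg (Nat.cast : ℕ → ℤ) hM
  push_cast [Nat.cast_sub hr] at h3
  linear_combination (r : ℤ) * h3

lemma hno_gen {n : ℕ} (N : ℕ) (hNpos : 0 < N) (A A' : Fin (n + 1) → ℕ)
    (hA : StrictAnti A) (hA' : StrictAnti A') (hAr : ∀ i, A i ≤ N - 1) (hA'r : ∀ i, A' i ≤ N - 1)
    (M' : ℕ) (hsum : ∑ i, A i + ∑ i, A' i = (n + 1) * M' + (n + 1) * n)
    (hne : ¬ ∃ a : ℤ, ∀ i, (A (Fin.rev i) : ℤ) + (A' i : ℤ) = a)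
    (σ τ : Equiv.Perm (Fin (n + 1))) :
    ∃ j : Fin n, ¬ (N : ℤ) ∣
      ((A (σ (Fin.castSucc j)) : ℤ) + (A' (τ (Fin.castSucc j)) : ℤ) - (n : ℤ) - M') := by
  by_contra hcon
  push Not at hcon
  have hMz : ∑ i, (A i : ℤ) + ∑ i, (A' i : ℤ) = ((n : ℤ) + 1) * M' + ((n : ℤ) + 1) * n := by
    have := congrArg (Nat.cast : ℕ → ℤ) hsum
    push_cast at this
    exact this
  have hsum0 : ∑ j : Fin (n + 1), ((A (σ j) : ℤ) + (A' (τ j) : ℤ) - (n : ℤ) - M') = 0 := by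
    simp only [Finset.sum_sub_distrib, Finset.sum_add_distrib, Finset.sum_const, Finset.card_univ,
      Fintype.card_fin, nsmul_eq_mul]
    rw [Equiv.sum_comp σ (fun i => (A i : ℤ)), Equiv.sum_comp τ (fun i => (A' i : ℤ))]
    push_cast
    linear_combination hMz
  have hall : ∀ j : Fin (n + 1), (N : ℤ) ∣
      ((A (σ j) : ℤ) + (A' (τ j) : ℤ) - (n : ℤ) - M') := by
    intro j
    refine Fin.lastCases ?_ (fun i => hcon i) j
    rw [Fin.sum_univ_castSucc] at hsum0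
    have : (A (σ (Fin.last n)) : ℤ) + (A' (τ (Fin.last n)) : ℤ) - (n : ℤ) - M' =
        -∑ i : Fin n, ((A (σ (Fin.castSucc i)) : ℤ) + (A' (τ (Fin.castSucc i)) : ℤ) - (n : ℤ) - M') := by
      linarith
    rw [this, dvd_neg]
    exact Finset.dvd_sum (fun i _ => hcon i)
  have hN : (0 : ℤ) < (N : ℤ) := by exact_mod_cast hNpos
  have hSA : ∀ β : Fin (n + 1) → ℕ, StrictAnti β → StrictAnti (fun i => (β i : ℤ)) := by
    intro β hβ i j hij
    have := hβ hij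
    simp only
    exact_mod_cast this
  have hR : ∀ β : Fin (n + 1) → ℕ, (∀ i, β i ≤ N - 1) →
      ∀ i, (0 : ℤ) ≤ (β i : ℤ) ∧ (β i : ℤ) ≤ (N : ℤ) - 1 := by
    intro β hβ i
    refine ⟨by positivity, ?_⟩
    have := hβ i
    omega
  have hcomb := comb_lemma (r := n + 1) (N : ℤ) hN (fun i => (A i : ℤ))
    (fun i => (A' i : ℤ)) (hSA A hA) (hSA A' hA') (hR A hAr) (hR A' hA'r)
    ((n : ℤ) + M' - ((N : ℤ) - 1))
    (by
      push_cast
      linear_combination hMz) σ τ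
    (by
      intro j
      have := hall j
      convert this using 1
      ring)
  apply hne
  refine ⟨(n : ℤ) + M', fun i => ?_⟩
  have h1 := hcomb i
  linarith

theorem main_gen (m N : ℕ) (hN : N ≠ 0) (A A' : Fin (m + 2) → ℕ)
    (hA : StrictAnti A) (hA' : StrictAnti A') (hAr : ∀ i, A i ≤ N - 1) (hA'r : ∀ i, A' i ≤ N - 1)
    (M : ℕ) (hM : ∑ i, A i + ∑ i, A' i = M + (m + 2) * (m + 2 - 1))
    (hne : ¬ ∃ a : ℤ, ∀ i, (A (Fin.rev i) : ℤ) + (A' i : ℤ) = a) :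
    ∑ v ∈ (Finset.univ : Finset (Fin (m + 2) → Fin N)).filter
        (fun v => StrictAnti v ∧ ((v (Fin.last (m + 1)) : Fin N) : ℕ) = 0),
      T N M A A' (fun j => (((v j : Fin N) : ℕ) : ℤ)) = 0 := by
  by_cases hdiv : (m + 2) ∣ M
  · obtain ⟨M', hM'⟩ := hdiv
    refine caseA (n := m + 1) N M A A' M' hM' hN ?_
    intro σ τ
    exact hno_gen (n := m + 1) N (Nat.pos_of_ne_zero hN) A A' hA hA' hAr hA'r M'
      (by rw [hM, hM']; simp) hne σ τ
  · rw [sum_V0_eq_sum_Vz N (T N M A A')]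
    apply sum_Vz_eq_zero
    · exact hC_gen M A A' hM (by omega)
    · exact hN
    · intro h
      rw [E_eq_one_iff _ (by positivity), dvd_neg] at h
      apply hdiv
      have h' : (m + 2) * N ∣ M * N := by
        rw [mul_comm M]
        exact_mod_cast h
      exact Nat.dvd_of_mul_dvd_mul_right (Nat.pos_of_ne_zero hN) h'

end H21.Verlinde
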