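import Mathlib
import Groth.Agent.H21.Verlinde.V18
import Groth.Agent.H21.Verlinde.V16

set_option autoImplicit false

open Complex

namespace H21.Verlinde

/-- reindexing with the extra condition that the last entry vanishes -/
theorem sum_antitone0_eq_sum_strictAnti0 (m K : ℕ) (F : (Fin (m + 2) → ℕ) → ℂ) :
    ∑ μ ∈ (Finset.univ : Finset (Fin (m + 2) → Fin K)).filter
        (fun μ : Fin (m + 2) → Fin K =>
          Antitone μ ∧ ∀ i : Fin (m + 2), (i : ℕ) = m + 2 - 1 → (μ i : ℕ) = 0),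
        F (fun i => ((μ i : Fin K) : ℕ) + (m + 2 - 1 - (i : ℕ))) =
      ∑ α ∈ (Finset.univ : Finset (Fin (m + 2) → Fin (K + (m + 2 - 1)))).filter
        (fun α => StrictAnti α ∧ ((α (Fin.last (m + 1)) : Fin (K + (m + 2 - 1))) : ℕ) = 0),
        F (fun i => ((α i : Fin (K + (m + 2 - 1))) : ℕ)) := by
  classical
  obtain ⟨F', hF'⟩ : ∃ F' : (Fin (m + 2) → ℕ) → ℂ,
      F' = fun β => if β (Fin.last (m + 1)) = 0 then F β else 0 := ⟨_, rfl⟩
  have h := sum_antitone_eq_sum_strictAnti (r := m + 2) (by omega) K F'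
  have hL : ∑ μ ∈ (Finset.univ : Finset (Fin (m + 2) → Fin K)).filter
        (fun μ : Fin (m + 2) → Fin K =>
          Antitone μ ∧ ∀ i : Fin (m + 2), (i : ℕ) = m + 2 - 1 → (μ i : ℕ) = 0),
        F (fun i => ((μ i : Fin K) : ℕ) + (m + 2 - 1 - (i : ℕ))) =
      ∑ μ ∈ (Finset.univ : Finset (Fin (m + 2) → Fin K)).filter Antitone,
        F' (fun i => ((μ i : Fin K) : ℕ) + (m + 2 - 1 - (i : ℕ))) := by
    rw [← Finset.filter_filter, Finset.sum_filter]
    refine Finset.sum_congr rfl (fun μ _ => ?_)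
    rw [hF']
    simp only [Fin.val_last]
    refine if_congr ?_ rfl rfl
    constructor
    · intro h1
      have := h1 (Fin.last (m + 1)) (by simp)
      omega
    · intro h1 i hi
      have : i = Fin.last (m + 1) := Fin.ext (by simp only [Fin.val_last]; omega)
      rw [this]
      omega
  have hRr : ∑ α ∈ (Finset.univ : Finset (Fin (m + 2) → Fin (K + (m + 2 - 1)))).filter
        (fun α => StrictAnti α ∧ ((α (Fin.last (m + 1)) : Fin (K + (m + 2 - 1))) : ℕ) = 0),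
        F (fun i => ((α i : Fin (K + (m + 2 - 1))) : ℕ)) =
      ∑ α ∈ (Finset.univ : Finset (Fin (m + 2) → Fin (K + (m + 2 - 1)))).filter StrictAnti,
        F' (fun i => ((α i : Fin (K + (m + 2 - 1))) : ℕ)) := by
    rw [← Finset.filter_filter, Finset.sum_filter]
    refine Finset.sum_congr rfl (fun α _ => ?_)
    rw [hF']
  rw [hL, hRr, h]

lemma Bmat_eq_Amat_transpose {r : ℕ} (N : ℕ) (hr : r ≠ 0) (a b : Fin r → ℕ) :
    Bmat N (fun j => (a j : ℤ)) b = (Amat N a (fun j => (b j : ℤ))).transpose := by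
  ext i j
  simp only [Bmat, Amat, Matrix.of_apply, Matrix.transpose_apply]
  rw [E_mul_left r N hr, E_pow, E_pow, mul_comm]

/-- second determinant in terms of `Amat` -/
lemma det_Bmat_neg {r : ℕ} (N : ℕ) (hN : N ≠ 0) (hr : r ≠ 0) (v' β : Fin r → ℕ)
    (hv' : ∀ i, v' i ≤ N - 1) :
    (Bmat N (fun j => -(v' j : ℤ)) β).det =
      ((Equiv.Perm.sign (Fin.revPerm : Equiv.Perm (Fin r)) : ℤ) : ℂ) * E N (∑ j, (β j : ℤ)) *
        (Amat N (fun i => N - 1 - v' (Fin.rev i)) (fun j => (β j : ℤ))).det := by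
  have hs : ((Equiv.Perm.sign (Fin.revPerm : Equiv.Perm (Fin r)) : ℤ) : ℂ) *
      ((Equiv.Perm.sign (Fin.revPerm : Equiv.Perm (Fin r)) : ℤ) : ℂ) = 1 := by
    rw [← Int.cast_mul, ← Units.val_mul, Int.units_mul_self]
    simp
  have h1 : (Amat N (fun i => N - 1 - v' (Fin.rev i)) (fun j => (β j : ℤ))).det =
      (Bmat N (fun j => ((N - 1 - v' (Fin.rev j) : ℕ) : ℤ)) β).det := by
    rw [Bmat_eq_Amat_transpose N hr, Matrix.det_transpose]
  have h2 : Bmat N (fun j => ((N - 1 - v' (Fin.rev j) : ℕ) : ℤ)) β =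
      Matrix.of fun i j => E N (-(β i : ℤ)) *
        ((Bmat N (fun j => -(v' j : ℤ)) β).submatrix id (Fin.revPerm : Equiv.Perm (Fin r))) i j := by
    ext i j
    simp only [Bmat, Matrix.of_apply, Matrix.submatrix_apply, Fin.revPerm_apply, id_eq]
    rw [E_pow, E_pow, ← E_add]
    have h3 : ((N - 1 - v' (Fin.rev j) : ℕ) : ℤ) = (N : ℤ) - 1 - (v' (Fin.rev j) : ℤ) := by
      have := hv' (Fin.rev j)
      omega
    rw [h3]
    have h4 : (β i : ℤ) * ((N : ℤ) - 1 - (v' (Fin.rev j) : ℤ)) =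
        (N : ℤ) * (β i : ℤ) + (-(β i : ℤ) + (β i : ℤ) * -(v' (Fin.rev j) : ℤ)) := by ring
    rw [h4, E_add, E_mul_self N hN, one_mul]
  rw [h1, h2, Matrix.det_mul_column, Matrix.det_permute', ← E_sum, Finset.sum_neg_distrib, E_neg]
  have hE := E_ne_zero N (∑ j, (β j : ℤ))
  calc (Bmat N (fun j => -(v' j : ℤ)) β).det
      = (((Equiv.Perm.sign (Fin.revPerm : Equiv.Perm (Fin r)) : ℤ) : ℂ) *
          ((Equiv.Perm.sign (Fin.revPerm : Equiv.Perm (Fin r)) : ℤ) : ℂ)) *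
        (E N (∑ j, (β j : ℤ)) * (E N (∑ j, (β j : ℤ)))⁻¹) *
        (Bmat N (fun j => -(v' j : ℤ)) β).det := by
        rw [hs, mul_inv_cancel₀ hE, one_mul, one_mul]
    _ = _ := by ring

end H21.Verlinde
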