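import Mathlib
import Groth.Agent.H21.Verlinde.V19

set_option autoImplicit false

open Complex

namespace H21.Verlinde

lemma sum_ge_stair {r : ℕ} (hr : 1 ≤ r) (β : Fin r → ℕ) (hβ : StrictAnti β) :
    r * (r - 1) ≤ 2 * ∑ i, β i := by
  have hgap := strictAnti_gap β hβ
  have hlow : ∀ i : Fin r, r - 1 - (i : ℕ) ≤ β i := by
    intro i
    have := hgap (r - 1 - (i : ℕ)) i ⟨r - 1, by omega⟩ (by
      have := i.is_lt
      simp only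
      omega)
    omega
  have h1 : ∑ i : Fin r, (r - 1 - (i : ℕ)) ≤ ∑ i, β i := Finset.sum_le_sum (fun i _ => hlow i)
  have h2 := sum_stair r
  omega

theorem schur_orth (m k : ℕ) (v v' : Fin (m + 2) → ℕ) (hv : StrictAnti v)
    (hvlt : ∀ i, v i < m + 2 + k) (hv' : StrictAnti v') (hv'lt : ∀ i, v' i < m + 2 + k)
    (hne : ¬ ∃ a : ℤ, ∀ i, (v i : ℤ) - (v' i : ℤ) = a)
    (z z' : Fin (m + 2) → ℂ)
    (hz : ∀ j, z j = Complex.exp (2 * Real.pi * Complex.I * (v j : ℂ) / (((m + 2 : ℕ) : ℂ) + k)))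
    (hz' : ∀ j, z' j = Complex.exp (2 * Real.pi * Complex.I * (v' j : ℂ) / (((m + 2 : ℕ) : ℂ) + k)))
    (S S' : (Fin (m + 2) → ℕ) → ℂ)
    (hS : ∀ μ : Fin (m + 2) → ℕ, S μ =
      (Matrix.of fun i j : Fin (m + 2) => z j ^ (μ i + (m + 2 - 1 - (i : ℕ)))).det /
        (Matrix.of fun i j : Fin (m + 2) => z j ^ (m + 2 - 1 - (i : ℕ))).det)
    (hS' : ∀ μ : Fin (m + 2) → ℕ, S' μ =
      (Matrix.of fun i j : Fin (m + 2) => z' j ^ (μ i + (m + 2 - 1 - (i : ℕ)))).det /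
        (Matrix.of fun i j : Fin (m + 2) => z' j ^ (m + 2 - 1 - (i : ℕ))).det) :
    (∑ μ ∈ (Finset.univ : Finset (Fin (m + 2) → Fin (k + 1))).filter
        (fun μ : Fin (m + 2) → Fin (k + 1) =>
          Antitone μ ∧ ∀ i : Fin (m + 2), (i : ℕ) = m + 2 - 1 → (μ i : ℕ) = 0),
      Complex.exp (-(2 * Real.pi * Complex.I * ((∑ i, (μ i : ℕ) : ℕ) : ℂ) * ((∑ j, v j : ℕ) : ℂ) /
          ((((m + 2 : ℕ) : ℂ)) * (((m + 2 : ℕ) : ℂ) + k)))) *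
      Complex.exp (-(2 * Real.pi * Complex.I * ((∑ i, (k - (μ (Fin.rev i) : ℕ)) : ℕ) : ℂ) *
          ((∑ j, v' j : ℕ) : ℂ) / ((((m + 2 : ℕ) : ℂ)) * (((m + 2 : ℕ) : ℂ) + k)))) *
      S (fun i => (μ i : ℕ)) * S' (fun i => k - (μ (Fin.rev i) : ℕ))) = 0 := by
  classical
  obtain ⟨N, hN⟩ : ∃ N : ℕ, N = k + 1 + (m + 2 - 1) := ⟨_, rfl⟩
  have hNmk : N = m + 2 + k := by omega
  have hN0 : N ≠ 0 := by omega
  have hr0 : m + 2 ≠ 0 := by omega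
  have hNC : (((m + 2 : ℕ) : ℂ) + k) = (N : ℂ) := by rw [hNmk]; push_cast; ring
  obtain ⟨w, hw⟩ : ∃ w : Fin (m + 2) → ℤ, w = fun j => (v j : ℤ) := ⟨_, rfl⟩
  obtain ⟨w', hw'⟩ : ∃ w' : Fin (m + 2) → ℤ, w' = fun j => (v' j : ℤ) := ⟨_, rfl⟩
  have hzE : ∀ j, z j = E N (w j) := by
    intro j
    rw [hz, hNC, hw]
    unfold E
    push_cast
    rfl
  have hz'E : ∀ j, z' j = E N (w' j) := by
    intro j
    rw [hz', hNC, hw']
    unfold E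
    push_cast
    rfl
  have hA : ∀ α : Fin (m + 2) → ℕ, (Matrix.of fun i j : Fin (m + 2) => z j ^ (α i)) = Bmat N w α := by
    intro α
    ext i j
    simp only [Matrix.of_apply, Bmat, hzE]
  have hA' : ∀ α : Fin (m + 2) → ℕ,
      (Matrix.of fun i j : Fin (m + 2) => z' j ^ (α i)) = Bmat N w' α := by
    intro α
    ext i j
    simp only [Matrix.of_apply, Bmat, hz'E]
  obtain ⟨D, hD⟩ : ∃ D : ℂ, D = (Bmat N w (fun i => m + 2 - 1 - (i : ℕ))).det := ⟨_, rfl⟩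
  obtain ⟨D', hD'⟩ : ∃ D' : ℂ, D' = (Bmat N w' (fun i => m + 2 - 1 - (i : ℕ))).det := ⟨_, rfl⟩
  obtain ⟨a', ha'⟩ : ∃ a' : Fin (m + 2) → ℕ, a' = fun i => N - 1 - v' (Fin.rev i) := ⟨_, rfl⟩
  have ha'anti : StrictAnti a' := by
    intro i j hij
    rw [ha']
    simp only
    have h1 : v' (Fin.rev i) < v' (Fin.rev j) := hv' (Fin.rev_lt_rev.mpr hij)
    have h2 := hv'lt (Fin.rev j)
    omega
  have ha'le : ∀ i, a' i ≤ N - 1 := by
    intro i; rw [ha']; simp only; omega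
  have hvle : ∀ i, v i ≤ N - 1 := by
    intro i; have := hvlt i; omega
  have hv'le : ∀ i, v' i ≤ N - 1 := by
    intro i; have := hv'lt i; omega
  obtain ⟨M, hMdef⟩ : ∃ M : ℕ, M = ∑ i, v i + ∑ i, a' i - (m + 2) * (m + 2 - 1) := ⟨_, rfl⟩
  have hM : ∑ i, v i + ∑ i, a' i = M + (m + 2) * (m + 2 - 1) := by
    have h1 := sum_ge_stair (by omega) v hv
    have h2 := sum_ge_stair (by omega) a' ha'anti
    omega
  -- sums as integers
  have ha'sum : ∑ i, (a' i : ℤ) = ((m + 2 : ℕ) : ℤ) * ((N : ℤ) - 1) - ∑ i, (v' i : ℤ) := by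
    have h1 : ∀ i, (a' i : ℤ) = (N : ℤ) - 1 - (v' (Fin.rev i) : ℤ) := by
      intro i
      rw [ha']
      have := hv'le (Fin.rev i)
      simp only
      omega
    simp_rw [h1]
    have h2 : ∑ i : Fin (m + 2), (v' (Fin.rev i) : ℤ) = ∑ i, (v' i : ℤ) :=
      Equiv.sum_comp Fin.revPerm (fun i => (v' i : ℤ))
    rw [Finset.sum_sub_distrib, Finset.sum_const, Finset.card_univ, Fintype.card_fin, nsmul_eq_mul,
      h2]
  have hMz : (M : ℤ) = ∑ i, (v i : ℤ) + (((m + 2 : ℕ) : ℤ) * ((N : ℤ) - 1) - ∑ i, (v' i : ℤ)) -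
      ((m + 2 : ℕ) : ℤ) * (((m + 2 : ℕ) : ℤ) - 1) := by
    have := congrArg (Nat.cast : ℕ → ℤ) hM
    push_cast at this
    rw [ha'sum] at this
    push_cast at this ⊢
    linarith
  obtain ⟨sd, hsd⟩ : ∃ sd : ℤ, sd = ∑ i : Fin (m + 2), ((m + 2 - 1 - (i : ℕ) : ℕ) : ℤ) := ⟨_, rfl⟩
  obtain ⟨X₀, hX₀⟩ : ∃ X₀ : ℤ, X₀ = -(((m + 2 : ℕ) : ℤ) * ((k : ℤ) + 1) * ∑ i, (v' i : ℤ)) +
      (∑ i, (v i : ℤ) - ∑ i, (v' i : ℤ)) * sd := ⟨_, rfl⟩
  -- the per-term identity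
  have hterm : ∀ μ : Fin (m + 2) → Fin (k + 1),
      Complex.exp (-(2 * Real.pi * Complex.I * ((∑ i, (μ i : ℕ) : ℕ) : ℂ) * ((∑ j, v j : ℕ) : ℂ) /
          ((((m + 2 : ℕ) : ℂ)) * (((m + 2 : ℕ) : ℂ) + k)))) *
      Complex.exp (-(2 * Real.pi * Complex.I * ((∑ i, (k - (μ (Fin.rev i) : ℕ)) : ℕ) : ℂ) *
          ((∑ j, v' j : ℕ) : ℂ) / ((((m + 2 : ℕ) : ℂ)) * (((m + 2 : ℕ) : ℂ) + k)))) *
      S (fun i => (μ i : ℕ)) * S' (fun i => k - (μ (Fin.rev i) : ℕ)) =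
      (E ((m + 2) * N) X₀ * (D * D')⁻¹) *
        T N M v a' (fun j => ((((μ j : Fin (k + 1)) : ℕ) + (m + 2 - 1 - (j : ℕ)) : ℕ) : ℤ)) := by
    intro μ
    obtain ⟨β, hβ⟩ : ∃ β : Fin (m + 2) → ℕ,
        β = fun i => ((μ i : Fin (k + 1)) : ℕ) + (m + 2 - 1 - (i : ℕ)) := ⟨_, rfl⟩
    have hβle : ∀ i, β i ≤ N - 1 := by
      intro i
      rw [hβ]
      have h3 := (μ i).is_lt
      have h4 := i.is_lt
      simp only
      omega
    have hSμ : S (fun i => ((μ i : Fin (k + 1)) : ℕ)) = (Bmat N w β).det * D⁻¹ := by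
      rw [hS, hA (fun i => ((μ i : Fin (k + 1)) : ℕ) + (m + 2 - 1 - (i : ℕ))),
        hA (fun i => m + 2 - 1 - (i : ℕ)), ← hD, ← hβ, div_eq_mul_inv]
    have hS'μ : S' (fun i => k - ((μ (Fin.rev i) : Fin (k + 1)) : ℕ)) =
        (Bmat N w' (fun i => N - 1 - β (Fin.rev i))).det * D'⁻¹ := by
      rw [hS', hA' (fun i => (k - ((μ (Fin.rev i) : Fin (k + 1)) : ℕ)) + (m + 2 - 1 - (i : ℕ))),
        hA' (fun i => m + 2 - 1 - (i : ℕ)), ← hD', div_eq_mul_inv]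
      have h2 : (fun i : Fin (m + 2) => (k - ((μ (Fin.rev i) : Fin (k + 1)) : ℕ)) +
          (m + 2 - 1 - (i : ℕ))) = fun i => N - 1 - β (Fin.rev i) := by
        funext i
        rw [hβ]
        have h3 := (μ (Fin.rev i)).is_lt
        have h4 := i.is_lt
        simp only [Fin.val_rev]
        omega
      rw [h2]
    have hdual := det_Bmat_dual N hN0 w' β hβle
    have hneg := det_Bmat_neg N hN0 hr0 v' β hv'le
    have hwn : (fun j => -w' j) = fun j => -(v' j : ℤ) := by rw [hw']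
    rw [hwn, hneg, ← ha'] at hdual
    have hfirst : (Bmat N w β).det = (Amat N v (fun j => (β j : ℤ))).det := by
      rw [hw, Bmat_eq_Amat_transpose N hr0, Matrix.det_transpose]
    have hT := T_eq_det N M v a' (fun j => (β j : ℤ))
    have hs : ((Equiv.Perm.sign (Fin.revPerm : Equiv.Perm (Fin (m + 2))) : ℤ) : ℂ) *
        ((Equiv.Perm.sign (Fin.revPerm : Equiv.Perm (Fin (m + 2))) : ℤ) : ℂ) = 1 := by
      rw [← Int.cast_mul, ← Units.val_mul, Int.units_mul_self]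
      simp
    -- integer bookkeeping
    obtain ⟨mu, hmu⟩ : ∃ mu : ℤ, mu = ∑ i, (((μ i : Fin (k + 1)) : ℕ) : ℤ) := ⟨_, rfl⟩
    have hmus : ((∑ i, (k - ((μ (Fin.rev i) : Fin (k + 1)) : ℕ)) : ℕ) : ℤ) =
        ((m + 2 : ℕ) : ℤ) * k - mu := by
      have h1 : ∀ i : Fin (m + 2), ((k - ((μ (Fin.rev i) : Fin (k + 1)) : ℕ) : ℕ) : ℤ) =
          (k : ℤ) - (((μ (Fin.rev i) : Fin (k + 1)) : ℕ) : ℤ) := by
        intro i
        have := (μ (Fin.rev i)).is_lt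
        omega
      rw [Nat.cast_sum]
      simp_rw [h1]
      have h2 : ∑ i : Fin (m + 2), (((μ (Fin.rev i) : Fin (k + 1)) : ℕ) : ℤ) =
          ∑ i, (((μ i : Fin (k + 1)) : ℕ) : ℤ) :=
        Equiv.sum_comp Fin.revPerm (fun i => (((μ i : Fin (k + 1)) : ℕ) : ℤ))
      rw [Finset.sum_sub_distrib, Finset.sum_const, Finset.card_univ, Fintype.card_fin,
        nsmul_eq_mul, h2, hmu]
    have hsb : ∑ j, (β j : ℤ) = mu + sd := by
      rw [hβ, hmu, hsd, ← Finset.sum_add_distrib]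
      refine Finset.sum_congr rfl (fun i _ => ?_)
      push_cast
      rfl
    have htw1 : Complex.exp (-(2 * Real.pi * Complex.I * ((∑ i, ((μ i : Fin (k + 1)) : ℕ) : ℕ) : ℂ) *
        ((∑ j, v j : ℕ) : ℂ) / ((((m + 2 : ℕ) : ℂ)) * (((m + 2 : ℕ) : ℂ) + k)))) =
        E ((m + 2) * N) (-(mu * ∑ j, (v j : ℤ))) := by
      rw [hNC, hmu]
      unfold E
      congr 1
      push_cast
      ring
    have htw2 : Complex.exp (-(2 * Real.pi * Complex.I *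
        ((∑ i, (k - ((μ (Fin.rev i) : Fin (k + 1)) : ℕ)) : ℕ) : ℂ) *
        ((∑ j, v' j : ℕ) : ℂ) / ((((m + 2 : ℕ) : ℂ)) * (((m + 2 : ℕ) : ℂ) + k)))) =
        E ((m + 2) * N) (-((((m + 2 : ℕ) : ℤ) * k - mu) * ∑ j, (v' j : ℤ))) := by
      rw [hNC, ← hmus]
      unfold E
      congr 1
      push_cast
      ring
    have hE1 : E N (-∑ j, w' j) = E ((m + 2) * N) (((m + 2 : ℕ) : ℤ) * (-∑ j, (v' j : ℤ))) := by
      rw [E_mul_left (m + 2) N hr0, hw']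
    have hE2 : E N (∑ j, (β j : ℤ)) = E ((m + 2) * N) (((m + 2 : ℕ) : ℤ) * ∑ j, (β j : ℤ)) := by
      rw [E_mul_left (m + 2) N hr0]
    have hEtot : E ((m + 2) * N) (-(mu * ∑ j, (v j : ℤ))) *
        E ((m + 2) * N) (-((((m + 2 : ℕ) : ℤ) * k - mu) * ∑ j, (v' j : ℤ))) *
        E ((m + 2) * N) (((m + 2 : ℕ) : ℤ) * (-∑ j, (v' j : ℤ))) *
        E ((m + 2) * N) (((m + 2 : ℕ) : ℤ) * ∑ j, (β j : ℤ)) =
        E ((m + 2) * N) X₀ *
          E ((m + 2) * N) (-((((m + 2 : ℕ) : ℤ) * (((m + 2 : ℕ) : ℤ) - 1) + M) * ∑ j, (β j : ℤ))) := by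
      rw [← E_add, ← E_add, ← E_add, ← E_add]
      have hdiff : -(mu * ∑ j, (v j : ℤ)) + -((((m + 2 : ℕ) : ℤ) * k - mu) * ∑ j, (v' j : ℤ)) +
          ((m + 2 : ℕ) : ℤ) * (-∑ j, (v' j : ℤ)) + ((m + 2 : ℕ) : ℤ) * ∑ j, (β j : ℤ) =
          (X₀ + -((((m + 2 : ℕ) : ℤ) * (((m + 2 : ℕ) : ℤ) - 1) + M) * ∑ j, (β j : ℤ))) +
            (((m + 2) * N : ℕ) : ℤ) * ∑ j, (β j : ℤ) := by
        rw [hMz, hsb, hX₀]
        push_cast
        ring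
      rw [hdiff, E_add, E_mul_self _ (by positivity), mul_one]
    have hβcast : (fun j : Fin (m + 2) =>
        ((((μ j : Fin (k + 1)) : ℕ) + (m + 2 - 1 - (j : ℕ)) : ℕ) : ℤ)) = fun j => (β j : ℤ) := by
      rw [hβ]
    rw [htw1, htw2, hSμ, hS'μ, hdual, hfirst, hE1, hE2, hβcast, hT]
    obtain ⟨sg, hsg⟩ : ∃ sg : ℂ,
        sg = ((Equiv.Perm.sign (Fin.revPerm : Equiv.Perm (Fin (m + 2))) : ℤ) : ℂ) := ⟨_, rfl⟩
    rw [← hsg] at hs ⊢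
    rw [mul_inv]
    generalize E ((m + 2) * N) (-(mu * ∑ j, (v j : ℤ))) = e1 at hEtot ⊢
    generalize E ((m + 2) * N) (-((((m + 2 : ℕ) : ℤ) * k - mu) * ∑ j, (v' j : ℤ))) = e2 at hEtot ⊢
    generalize E ((m + 2) * N) (((m + 2 : ℕ) : ℤ) * (-∑ j, (v' j : ℤ))) = e3 at hEtot ⊢
    generalize E ((m + 2) * N) (((m + 2 : ℕ) : ℤ) * ∑ j, (β j : ℤ)) = e4 at hEtot ⊢
    generalize E ((m + 2) * N) X₀ = eX at hEtot ⊢
    generalize E ((m + 2) * N)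
      (-((((m + 2 : ℕ) : ℤ) * (((m + 2 : ℕ) : ℤ) - 1) + M) * ∑ j, (β j : ℤ))) = eT at hEtot ⊢
    generalize (Amat N v (fun j => (β j : ℤ))).det = dA
    generalize (Amat N a' (fun j => (β j : ℤ))).det = dA'
    linear_combination (e1 * e2 * e3 * e4 * dA * dA' * D⁻¹ * D'⁻¹) * hs +
      (dA * dA' * D⁻¹ * D'⁻¹) * hEtot
  have hne' : ¬ ∃ a : ℤ, ∀ i, (v (Fin.rev i) : ℤ) + (a' i : ℤ) = a := by
    rintro ⟨a, ha⟩
    apply hne
    refine ⟨a - ((N : ℤ) - 1), fun i => ?_⟩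
    have h1 := ha (Fin.rev i)
    rw [Fin.rev_rev, ha'] at h1
    simp only [Fin.rev_rev] at h1
    have h2 := hv'le i
    have h3 : ((N - 1 - v' i : ℕ) : ℤ) = (N : ℤ) - 1 - (v' i : ℤ) := by omega
    rw [h3] at h1
    linarith
  rw [Finset.sum_congr rfl (fun μ _ => hterm μ), ← Finset.mul_sum]
  have hmain := main_gen m N hN0 v a' hv ha'anti hvle ha'le M hM hne'
  have hre := sum_antitone0_eq_sum_strictAnti0 m (k + 1)
    (fun β => T N M v a' (fun j => (β j : ℤ)))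
  subst hN
  simp only at hre
  rw [hre, hmain, mul_zero]

end H21.Verlinde
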